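import Mathlib

/-!
# Twisted symmetric compositions (helper207)

`SC Q s st` : `st : V → V → V` is biadditive, `(s, s²)`-semilinear, `s³ = 1`, `Q (u ⋆ v) = s (Q u) s² (Q v)` and
`b(u ⋆ v, w) = s b(u, v ⋆ w)`, `b` the (nondegenerate) polar form of `Q`.

* `SC.left`, `SC.right` : `(u ⋆ v) ⋆ u = s² (Q u) v`, `u ⋆ (v ⋆ u) = s (Q u) v`; `SC.left'`, `SC.right'` the linearised
  forms;
* `Abs Q st u` : `u` is an absolute vector, `u ≠ 0`, `Q u = 0`, `u ⋆ u = 0`.
-/

set_option autoImplicit false

namespace Cfsg.Agent.H207.TriComp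

open QuadraticMap

variable {F V : Type*} [Field F] [AddCommGroup V] [Module F V]

/-- Twisted symmetric compositions. -/
structure SC (Q : QuadraticForm F V) (s : F ≃+* F) (st : V → V → V) : Prop where
  cube : ∀ a, s (s (s a)) = a
  add_left : ∀ u v w, st (u + v) w = st u w + st v w
  add_right : ∀ u v w, st u (v + w) = st u v + st u w
  smul_left : ∀ (c : F) u v, st (c • u) v = s c • st u v
  smul_right : ∀ (c : F) u v, st u (c • v) = s (s c) • st u v
  norm : ∀ u v, Q (st u v) = s (Q u) * s (s (Q v))
  assoc : ∀ u v w, polar Q (st u v) w = s (polar Q u (st v w))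
  nondeg : ∀ v, (∀ w, polar Q v w = 0) → v = 0

/-- Absolute vectors. -/
structure Abs (Q : QuadraticForm F V) (st : V → V → V) (u : V) : Prop where
  ne : u ≠ 0
  norm : Q u = 0
  sq : st u u = 0

namespace SC

variable {Q : QuadraticForm F V} {s : F ≃+* F} {st : V → V → V} (h : SC Q s st)

include h

theorem zero_left (v : V) : st 0 v = 0 := by
  have := h.add_left 0 0 v
  rw [add_zero] at this
  exact left_eq_add.1 this

theorem zero_right (v : V) : st v 0 = 0 := by
  have := h.add_right v 0 0
  rw [add_zero] at this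
  exact left_eq_add.1 this

theorem neg_left (u v : V) : st (-u) v = -st u v := by
  have := h.smul_left (-1) u v
  rwa [neg_one_smul, map_neg, map_one, neg_one_smul] at this

theorem neg_right (u v : V) : st u (-v) = -st u v := by
  have := h.smul_right (-1) u v
  rwa [neg_one_smul, map_neg, map_one, map_neg, map_one, neg_one_smul] at this

theorem sub_left (u v w : V) : st (u - v) w = st u w - st v w := by
  rw [sub_eq_add_neg, h.add_left, h.neg_left, ← sub_eq_add_neg]

theorem sub_right (u v w : V) : st u (v - w) = st u v - st u w := by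
  rw [sub_eq_add_neg, h.add_right, h.neg_right, ← sub_eq_add_neg]

theorem ext {v v' : V} (hv : ∀ w, polar Q v w = polar Q v' w) : v = v' := by
  rw [← sub_eq_zero]
  apply h.nondeg
  intro w
  rw [polar_sub_left, hv, sub_self]

/-- `b(u ⋆ v, u ⋆ w) = s (Q u) s² b(v, w)`. -/
theorem polar_left (u v w : V) : polar Q (st u v) (st u w) = s (Q u) * s (s (polar Q v w)) := by
  unfold polar
  rw [← h.add_right, h.norm, h.norm, h.norm, map_sub, map_sub, map_sub, map_sub]
  ring

/-- `b(v ⋆ u, w ⋆ u) = s b(v, w) s² (Q u)`. -/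
theorem polar_right (u v w : V) : polar Q (st v u) (st w u) = s (polar Q v w) * s (s (Q u)) := by
  unfold polar
  rw [← h.add_left, h.norm, h.norm, h.norm, map_sub, map_sub]
  ring

/-- `b(u, v ⋆ w) = s² b(w, u ⋆ v)`. -/
theorem cyc (u v w : V) : polar Q u (st v w) = s (s (polar Q w (st u v))) := by
  rw [polar_comm Q u, h.assoc v w u, polar_comm Q v, h.assoc w u v]

theorem left (u v : V) : st (st u v) u = s (s (Q u)) • v := by
  apply h.ext
  intro w
  rw [h.assoc, h.polar_left, map_mul, h.cube, polar_smul_left, smul_eq_mul]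

theorem right (u v : V) : st u (st v u) = s (Q u) • v := by
  apply h.ext
  intro w
  have h1 := h.assoc w u (st v u)
  rw [h.polar_right] at h1
  have h2 := congrArg (fun a => s (s a)) h1
  beta_reduce at h2
  rw [h.cube, map_mul, map_mul, h.cube, h.cube] at h2
  rw [polar_comm, ← h2, polar_smul_left, smul_eq_mul, polar_comm Q w v, mul_comm]

/-- `(u ⋆ v) ⋆ w + (w ⋆ v) ⋆ u = s² b(u, w) v`. -/
theorem left' (u v w : V) : st (st u v) w + st (st w v) u = s (s (polar Q u w)) • v := by
  have h1 := h.left (u + w) v
  rw [h.add_left u w, h.add_left, h.add_right, h.add_right, h.left, h.left] at h1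
  have h2 : Q (u + w) = Q u + Q w + polar Q u w := by unfold polar; ring
  rw [h2, map_add, map_add, map_add, map_add, add_smul, add_smul] at h1
  linear_combination (norm := module) h1

/-- `u ⋆ (v ⋆ w) + w ⋆ (v ⋆ u) = s b(u, w) v`. -/
theorem right' (u v w : V) : st u (st v w) + st w (st v u) = s (polar Q u w) • v := by
  have h1 := h.right (u + w) v
  rw [h.add_right v, h.add_left, h.add_right, h.add_right, h.right, h.right] at h1
  have h2 : Q (u + w) = Q u + Q w + polar Q u w := by unfold polar; ring
  rw [h2, map_add, map_add, add_smul, add_smul] at h1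
  linear_combination (norm := module) h1

end SC

end Cfsg.Agent.H207.TriComp
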