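import Cfsg.Agent.H207.TriComp
import Cfsg.Agent.ClassicalGeometry.OrthSemi

/-!
# Algebra of twisted symmetric compositions (helper207)

* `M1 h u`, `M2 h u` : the kernels of `u ⋆ ·` and `· ⋆ u`; `Pi h u` their intersection; `Pe Q u` the orthogonal of `u`;
* `f0 Q u w z = z + b(u, z) w - b(w, z) u`, `f1 st u w z = z - (w ⋆ z) ⋆ u`, `f2 st u w z = z - u ⋆ (z ⋆ w)` : for `u`, `w`
  isotropic and orthogonal, `f0 (p ⋆ q) = f1 p ⋆ f2 q` (`SC.tri`);
* `chain h u` : the chain `0 < ⟨u⟩ < Pi u < M1 u + M2 u < u^⊥ < V`, acted on trivially by `f0`, `f1`, `f2` for absolute `u`.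
-/

set_option autoImplicit false

namespace Cfsg.Agent.H207.TriComp

open QuadraticMap

variable {F V : Type*} [Field F] [AddCommGroup V] [Module F V]
variable {Q : QuadraticForm F V} {s : F ≃+* F} {st : V → V → V}

namespace SC

theorem left'' (h : SC Q s st) (u v w : V) :
    st (st u v) w = s (s (polar Q u w)) • v - st (st w v) u := by
  rw [← h.left' u v w, add_sub_cancel_right]

theorem right'' (h : SC Q s st) (u v w : V) :
    st u (st v w) = s (polar Q u w) • v - st w (st v u) := by
  rw [← h.right' u v w, add_sub_cancel_right]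

/-- `M1 u = {z | u ⋆ z = 0}`. -/
def M1 (h : SC Q s st) (u : V) : Submodule F V where
  carrier := {z | st u z = 0}
  add_mem' := by
    intro a b (ha : st u a = 0) (hb : st u b = 0)
    change st u (a + b) = 0
    rw [h.add_right, ha, hb, add_zero]
  zero_mem' := h.zero_right u
  smul_mem' := by
    intro c a (ha : st u a = 0)
    change st u (c • a) = 0
    rw [h.smul_right, ha, smul_zero]

/-- `M2 u = {z | z ⋆ u = 0}`. -/
def M2 (h : SC Q s st) (u : V) : Submodule F V where
  carrier := {z | st z u = 0}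
  add_mem' := by
    intro a b (ha : st a u = 0) (hb : st b u = 0)
    change st (a + b) u = 0
    rw [h.add_left, ha, hb, add_zero]
  zero_mem' := h.zero_left u
  smul_mem' := by
    intro c a (ha : st a u = 0)
    change st (c • a) u = 0
    rw [h.smul_left, ha, smul_zero]

/-- `Pi u = M1 u ∩ M2 u`. -/
def Pi (h : SC Q s st) (u : V) : Submodule F V := h.M1 u ⊓ h.M2 u

variable (h : SC Q s st)

theorem mem_M1 {u z : V} : z ∈ h.M1 u ↔ st u z = 0 := Iff.rfl

theorem mem_M2 {u z : V} : z ∈ h.M2 u ↔ st z u = 0 := Iff.rfl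

theorem mem_Pi {u z : V} : z ∈ h.Pi u ↔ st u z = 0 ∧ st z u = 0 := Iff.rfl

theorem Pi_le_M1 (u : V) : h.Pi u ≤ h.M1 u := inf_le_left

theorem Pi_le_M2 (u : V) : h.Pi u ≤ h.M2 u := inf_le_right

/-- The orthogonal of `u`. -/
def _root_.Cfsg.Agent.H207.TriComp.Pe (Q : QuadraticForm F V) (u : V) : Submodule F V where
  carrier := {z | polar Q u z = 0}
  add_mem' := by
    intro a b (ha : polar Q u a = 0) (hb : polar Q u b = 0)
    change polar Q u (a + b) = 0
    rw [polar_add_right, ha, hb, add_zero]
  zero_mem' := by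
    change polar Q u 0 = 0
    rw [polar_zero_right]
  smul_mem' := by
    intro c a (ha : polar Q u a = 0)
    change polar Q u (c • a) = 0
    rw [polar_smul_right, ha, smul_zero]

theorem mem_Pe {u z : V} : z ∈ Pe Q u ↔ polar Q u z = 0 := Iff.rfl

theorem _root_.Cfsg.Agent.H207.TriComp.polar_self_of_norm {u : V} (hu : Q u = 0) : polar Q u u = 0 := by
  rw [QuadraticMap.polar_self, hu, smul_zero]

include h

theorem exists_pair {u : V} (hu : u ≠ 0) : ∃ w, polar Q u w = 1 := by
  by_contra hc
  push Not at hc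
  apply hu
  apply h.nondeg
  intro w
  by_contra hw
  apply hc ((polar Q u w)⁻¹ • w)
  rw [polar_smul_right, smul_eq_mul, inv_mul_cancel₀ hw]

section Abs

variable {u : V} (hu : Abs Q st u)

include hu

theorem uuz (z : V) : st u (st u z) = s (polar Q u z) • u := by
  rw [h.right'', hu.sq, h.zero_right, sub_zero]

theorem zuu (z : V) : st (st z u) u = s (s (polar Q z u)) • u := by
  rw [h.left'', hu.sq, h.zero_left, sub_zero]

theorem uzu (z : V) : st (st u z) u = 0 := by
  rw [h.left, hu.norm, map_zero, map_zero, zero_smul]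

theorem uzu' (z : V) : st u (st z u) = 0 := by
  rw [h.right, hu.norm, map_zero, zero_smul]

theorem polar_of_M1 {z : V} (hz : st u z = 0) : polar Q u z = 0 := by
  have h1 := h.uuz hu z
  rw [hz, h.zero_right] at h1
  rcases smul_eq_zero.1 h1.symm with h2 | h2
  · exact (map_eq_zero s).1 h2
  · exact absurd h2 hu.ne

theorem polar_of_M2 {z : V} (hz : st z u = 0) : polar Q u z = 0 := by
  have h1 := h.zuu hu z
  rw [hz, h.zero_left] at h1
  rcases smul_eq_zero.1 h1.symm with h2 | h2
  · rw [polar_comm]
    exact (map_eq_zero s).1 ((map_eq_zero s).1 h2)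
  · exact absurd h2 hu.ne

theorem norm_of_M1 {z : V} (hz : st u z = 0) : Q z = 0 := by
  obtain ⟨w, hw⟩ := h.exists_pair hu.ne
  have h1 := h.left' u z w
  rw [hz, h.zero_left, zero_add, hw, map_one, map_one, one_smul] at h1
  rw [← h1, h.norm, hu.norm, map_zero, map_zero, mul_zero]

theorem norm_of_M2 {z : V} (hz : st z u = 0) : Q z = 0 := by
  obtain ⟨w, hw⟩ := h.exists_pair hu.ne
  have h1 := h.right' u z w
  rw [hz, h.zero_right, add_zero, hw, map_one, one_smul] at h1
  rw [← h1, h.norm, hu.norm, map_zero, zero_mul]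

theorem norm_of_Pi {z : V} (hz : z ∈ h.Pi u) : Q z = 0 := h.norm_of_M1 hu hz.1

theorem polar_of_Pi {z : V} (hz : z ∈ h.Pi u) : polar Q u z = 0 := h.polar_of_M1 hu hz.1

theorem self_mem_Pi : u ∈ h.Pi u := ⟨hu.sq, hu.sq⟩

end Abs

end SC

/-! ### The three maps -/

/-- The Siegel transformation of two isotropic orthogonal vectors. -/
def f0 (Q : QuadraticForm F V) (u w z : V) : V := z + (polar Q u z • w - polar Q w z • u)

/-- Its first image. -/
def f1 (st : V → V → V) (u w z : V) : V := z - st (st w z) u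

/-- Its second image. -/
def f2 (st : V → V → V) (u w z : V) : V := z - st u (st z w)

/-- Two isotropic orthogonal vectors. -/
structure Iso2 (Q : QuadraticForm F V) (u w : V) : Prop where
  nu : Q u = 0
  nw : Q w = 0
  uw : polar Q u w = 0

theorem Iso2.neg {u w : V} (hi : Iso2 Q u w) : Iso2 Q u (-w) :=
  ⟨hi.nu, by rw [QuadraticMap.map_neg, hi.nw], by rw [polar_neg_right, hi.uw, neg_zero]⟩

theorem Iso2.smul {u w : V} (hi : Iso2 Q u w) (c : F) : Iso2 Q u (c • w) :=
  ⟨hi.nu, by rw [QuadraticMap.map_smul, hi.nw, smul_zero], by rw [polar_smul_right, hi.uw, smul_zero]⟩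

theorem Iso2.wu {u w : V} (hi : Iso2 Q u w) : polar Q w u = 0 := by rw [polar_comm, hi.uw]

theorem Iso2.uu {u w : V} (hi : Iso2 Q u w) : polar Q u u = 0 := by
  rw [QuadraticMap.polar_self, hi.nu, smul_zero]

theorem Iso2.ww {u w : V} (hi : Iso2 Q u w) : polar Q w w = 0 := by
  rw [QuadraticMap.polar_self, hi.nw, smul_zero]

namespace SC

variable (h : SC Q s st)

include h

theorem wzu {u w : V} (hi : Iso2 Q u w) (z : V) : st w (st (st w z) u) = 0 := by
  rw [h.right'', hi.wu, map_zero, zero_smul, zero_sub, h.left, hi.nw, map_zero, map_zero, zero_smul, h.zero_right,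
    neg_zero]

theorem uzw {u w : V} (hi : Iso2 Q u w) (z : V) : st (st u (st z w)) w = 0 := by
  rw [h.left'', hi.uw, map_zero, map_zero, zero_smul, zero_sub, h.right, hi.nw, map_zero, zero_smul, h.zero_left,
    neg_zero]

/-- `f0 (p ⋆ q) = f1 p ⋆ f2 q`. -/
theorem tri {u w : V} (hi : Iso2 Q u w) (p q : V) : f0 Q u w (st p q) = st (f1 st u w p) (f2 st u w q) := by
  have e1 : st (st (st w p) u) q = polar Q w (st p q) • u - st (st q u) (st w p) := by
    rw [h.left'', h.assoc w p q, h.cube]
  have e2 : st p (st u (st q w)) = polar Q w (st p q) • u - st (st q w) (st u p) := by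
    rw [h.right'', h.cyc p q w, h.cube]
  have e3 : st (st q u) (st w p) + st (st q w) (st u p) = polar Q u (st p q) • w + polar Q w (st p q) • u := by
    have e4 : st w (st q u) = -st u (st q w) := by
      rw [h.right'', hi.wu, map_zero, zero_smul, zero_sub]
    have e5 : st (st q u) (st w p) = polar Q u (st p q) • w + st p (st u (st q w)) := by
      rw [h.right'', e4, h.neg_right, sub_neg_eq_add, polar_comm Q (st q u) p, h.cyc p q u, h.cube]
    rw [e5, e2]
    abel
  have e6 : st (st (st w p) u) (st u (st q w)) = 0 := by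
    rw [h.left'', h.left, hi.nu, map_zero, map_zero, zero_smul, h.zero_left, sub_zero]
    have e7 : polar Q (st w p) (st u (st q w)) = 0 := by
      rw [h.assoc w p, e2, polar_sub_right, polar_smul_right, hi.wu, smul_zero, zero_sub, map_neg,
        h.cyc w (st q w) (st u p), h.right, polar_smul_right, hi.nw, map_zero, zero_smul, map_zero, map_zero, map_zero,
        neg_zero]
    rw [e7, map_zero, map_zero, zero_smul]
  rw [f0, f1, f2, h.sub_left, h.sub_right, h.sub_right, e6, e1, e2, sub_zero]
  have e8 : st p q - (polar Q w (st p q) • u - st (st q w) (st u p)) -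
      (polar Q w (st p q) • u - st (st q u) (st w p)) =
      st p q + ((st (st q u) (st w p) + st (st q w) (st u p)) - polar Q w (st p q) • u -
        polar Q w (st p q) • u) := by abel
  rw [e8, e3]
  abel

theorem f1_f1 {u w : V} (hi : Iso2 Q u w) (z : V) : f1 st u (-w) (f1 st u w z) = z := by
  unfold f1
  rw [h.sub_right, h.neg_left, h.neg_left, h.wzu hi, neg_zero, sub_zero, h.neg_left]
  abel

theorem f2_f2 {u w : V} (hi : Iso2 Q u w) (z : V) : f2 st u (-w) (f2 st u w z) = z := by
  unfold f2
  rw [h.sub_left, h.neg_right, h.neg_right, h.uzw hi, neg_zero, sub_zero, h.neg_right]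
  abel

omit h in
theorem f0_f0 {u w : V} (hi : Iso2 Q u w) (z : V) : f0 Q u (-w) (f0 Q u w z) = z := by
  unfold f0
  simp only [polar_add_right, polar_sub_right, polar_smul_right, polar_neg_left, smul_eq_mul, hi.uw, hi.wu, hi.uu,
    hi.ww]
  module

theorem norm_f1 {u w : V} (hi : Iso2 Q u w) (z : V) : Q (f1 st u w z) = Q z := by
  have e1 : Q (st (st w z) u) = 0 := by rw [h.norm, hi.nu, map_zero, map_zero, mul_zero]
  have e2 : polar Q z (st (st w z) u) = 0 := by
    rw [h.cyc, h.right, polar_smul_right, hi.uw, smul_zero, map_zero, map_zero]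
  have e3 : Q (z - st (st w z) u) = Q z + Q (st (st w z) u) - polar Q z (st (st w z) u) := by
    have e4 : polar Q z (-st (st w z) u) = - polar Q z (st (st w z) u) := polar_neg_right Q z _
    rw [polar, QuadraticMap.map_neg, ← sub_eq_add_neg] at e4
    linear_combination e4
  rw [f1, e3, e1, e2]
  ring

theorem norm_f2 {u w : V} (hi : Iso2 Q u w) (z : V) : Q (f2 st u w z) = Q z := by
  have e1 : Q (st u (st z w)) = 0 := by rw [h.norm, hi.nu, map_zero, zero_mul]
  have e2 : polar Q z (st u (st z w)) = 0 := by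
    rw [polar_comm, h.assoc, h.left, polar_smul_right, hi.uw, smul_zero, map_zero]
  have e3 : Q (z - st u (st z w)) = Q z + Q (st u (st z w)) - polar Q z (st u (st z w)) := by
    have e4 : polar Q z (-st u (st z w)) = - polar Q z (st u (st z w)) := polar_neg_right Q z _
    rw [polar, QuadraticMap.map_neg, ← sub_eq_add_neg] at e4
    linear_combination e4
  rw [f2, e3, e1, e2]
  ring

omit h in
theorem norm_f0 {u w : V} (hi : Iso2 Q u w) (z : V) : Q (f0 Q u w z) = Q z := by
  have key : ∀ a b : V, Q (a + b) = Q a + Q b + polar Q a b := by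
    intro a b
    unfold polar
    ring
  rw [f0, key, sub_eq_add_neg, key, QuadraticMap.map_neg, QuadraticMap.map_smul, QuadraticMap.map_smul, hi.nu, hi.nw,
    polar_add_right, polar_neg_right, polar_neg_right, polar_smul_right, polar_smul_right, polar_smul_right,
    polar_smul_left, hi.wu, polar_comm Q z w, polar_comm Q z u]
  simp only [smul_eq_mul]
  ring

end SC

end Cfsg.Agent.H207.TriComp
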