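import Mathlib

/-!
# Linear maps acting trivially on the factors of a chain (helper207)

`IsUni W f` : `f` is linear and `(f - 1) (W (i+1)) ≤ W i`. If `W 0 = ⊥`, `W 5 = ⊤` and the characteristic is `r` then
`f ^ (r ^ 3) = 1` (`IsUni.pow_eq_one`).
-/

set_option autoImplicit false

namespace Cfsg.Agent.H207.Uni

variable {F V : Type*} [Field F] [AddCommGroup V] [Module F V]

/-- `f` is linear and acts trivially on the factors of the chain `W`. -/
structure IsUni (W : ℕ → Submodule F V) (f : V → V) : Prop where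
  add : ∀ x y, f (x + y) = f x + f y
  smul : ∀ (c : F) x, f (c • x) = c • f x
  sub : ∀ i, ∀ z ∈ W (i + 1), f z - z ∈ W i

variable {W : ℕ → Submodule F V}

theorem IsUni.mem {f : V → V} (h : IsUni W f) (hm : ∀ i, W i ≤ W (i + 1)) {i : ℕ} {z : V} (hz : z ∈ W (i + 1)) :
    f z ∈ W (i + 1) := by
  have h1 := (W (i + 1)).add_mem (hm i (h.sub i z hz)) hz
  rwa [sub_add_cancel] at h1

theorem IsUni.id : IsUni W (fun z => z) :=
  ⟨fun _ _ => rfl, fun _ _ => rfl, fun i z _ => by rw [sub_self]; exact (W i).zero_mem⟩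

theorem IsUni.comp {f g : V → V} (hm : ∀ i, W i ≤ W (i + 1)) (hf : IsUni W f) (hg : IsUni W g) :
    IsUni W (fun z => f (g z)) := by
  refine ⟨fun x y => by rw [hg.add, hf.add], fun c x => by rw [hg.smul, hf.smul], fun i z hz => ?_⟩
  have h1 := (W i).add_mem (hf.sub i _ (hg.mem hm hz)) (hg.sub i z hz)
  rwa [sub_add_sub_cancel] at h1

theorem IsUni.pow {f : Equiv.Perm V} (hm : ∀ i, W i ≤ W (i + 1)) (hf : IsUni W f) (n : ℕ) :
    IsUni W (f ^ n : Equiv.Perm V) := by
  induction n with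
  | zero => exact IsUni.id
  | succ n ih =>
    have h1 := IsUni.comp hm ih hf
    rw [pow_succ]
    exact h1

/-- The linear map. -/
def IsUni.lin {f : V → V} (h : IsUni W f) : Module.End F V where
  toFun := f
  map_add' := h.add
  map_smul' := h.smul

theorem IsUni.pow_mem {f : V → V} (h : IsUni W f) (i : ℕ) : ∀ (j : ℕ) (z : V), z ∈ W (i + j) →
    ((h.lin - 1) ^ i) z ∈ W j := by
  induction i with
  | zero =>
    intro j z hz
    rw [pow_zero, Module.End.one_apply]
    rwa [zero_add] at hz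
  | succ i ih =>
    intro j z hz
    rw [pow_succ', Module.End.mul_apply]
    have h1 := ih (j + 1) z (by rwa [← add_assoc, add_right_comm])
    exact h.sub j _ h1

theorem IsUni.pow_eq_one {r : ℕ} [hr : Fact r.Prime] [CharP F r] {f : Equiv.Perm V} (h : IsUni W f) (h0 : W 0 = ⊥)
    (h5 : W 5 = ⊤) : f ^ (r ^ 3) = 1 := by
  rcases subsingleton_or_nontrivial V with hV | hV
  · ext z
    exact Subsingleton.elim _ _
  have hc : CharP (Module.End F V) r := charP_of_injective_algebraMap (algebraMap F (Module.End F V)).injective r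
  have hn : (h.lin - 1) ^ 5 = 0 := by
    ext z
    have h1 := h.pow_mem 5 0 z (by rw [add_zero, h5]; trivial)
    rw [h0, Submodule.mem_bot] at h1
    exact h1
  have h8 : 5 ≤ r ^ 3 := by
    have h1 : 2 ^ 3 ≤ r ^ 3 := Nat.pow_le_pow_left hr.out.two_le 3
    omega
  have h2 : (h.lin - 1) ^ (r ^ 3) = 0 := pow_eq_zero_of_le h8 hn
  have h3 : h.lin ^ (r ^ 3) = 1 := by
    have h4 := add_pow_char_pow_of_commute r 3 (Commute.one_right (h.lin - 1))
    rw [sub_add_cancel, h2, zero_add, one_pow] at h4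
    exact h4
  ext z
  have h4 : ∀ (n : ℕ) (z : V), (h.lin ^ n) z = (f ^ n : Equiv.Perm V) z := by
    intro n
    induction n with
    | zero => intro z; rfl
    | succ n ih =>
      intro z
      rw [pow_succ, Module.End.mul_apply, ih, pow_succ, Equiv.Perm.mul_apply]
      rfl
  rw [← h4, h3]
  rfl

/-- Inverses. -/
theorem IsUni.inv {r : ℕ} [hr : Fact r.Prime] [CharP F r] {f : Equiv.Perm V} (h : IsUni W f)
    (hm : ∀ i, W i ≤ W (i + 1)) (h0 : W 0 = ⊥) (h5 : W 5 = ⊤) : IsUni W (f⁻¹ : Equiv.Perm V) := by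
  have h1 := h.pow_eq_one (r := r) h0 h5
  have h2 : f⁻¹ = f ^ (r ^ 3 - 1) := by
    rw [inv_eq_iff_mul_eq_one, ← pow_succ', Nat.sub_add_cancel (Nat.one_le_pow _ _ hr.out.pos), h1]
  rw [h2]
  exact h.pow hm _

/-- Transport by a semilinear bijection mapping a chain into another one. -/
theorem IsUni.conj {W' : ℕ → Submodule F V} {f g : Equiv.Perm V} {σ : F ≃+* F} (h : IsUni W f)
    (hga : ∀ x y, g (x + y) = g x + g y) (hgs : ∀ (c : F) x, g (c • x) = σ c • g x)
    (hW : ∀ i z, g z ∈ W' i ↔ z ∈ W i) : IsUni W' (g * f * g⁻¹ : Equiv.Perm V) := by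
  have hz : ∀ z, g (g⁻¹ z) = z := fun z => g.apply_symm_apply z
  have hia : ∀ x y, g⁻¹ (x + y) = g⁻¹ x + g⁻¹ y := by
    intro x y
    apply g.injective
    rw [hz, hga, hz, hz]
  have his : ∀ (c : F) x, g⁻¹ (c • x) = σ.symm c • g⁻¹ x := by
    intro c x
    apply g.injective
    rw [hz, hgs, hz, RingEquiv.apply_symm_apply]
  have hsub : ∀ x y, g (x - y) = g x - g y := by
    intro x y
    rw [eq_sub_iff_add_eq, ← hga, sub_add_cancel]
  refine ⟨fun x y => ?_, fun c x => ?_, fun i z hzi => ?_⟩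
  · change g (f (g⁻¹ (x + y))) = g (f (g⁻¹ x)) + g (f (g⁻¹ y))
    rw [hia, h.add, hga]
  · change g (f (g⁻¹ (c • x))) = c • g (f (g⁻¹ x))
    rw [his, h.smul, hgs, RingEquiv.apply_symm_apply]
  · change g (f (g⁻¹ z)) - z ∈ W' i
    have h1 := h.sub i (g⁻¹ z) (by rw [← hW, hz]; exact hzi)
    rw [← hW, hsub, hz] at h1
    exact h1

end Cfsg.Agent.H207.Uni
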