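import Cfsg.Agent.H207.TriAlg
import Cfsg.Agent.H207.Uni

/-!
# The chain of an absolute vector (helper207)

`chain h u` : `0 < ⟨u⟩ < Pi u < M1 u + M2 u < u^⊥ < V`; for `u` absolute and `w` isotropic, orthogonal to `u`, the maps
`f0`, `f1`, `f2` are in `IsUni (chain h u)`; transport of the chain by semisimilarities of the product.
-/

set_option autoImplicit false

namespace Cfsg.Agent.H207.TriComp

open QuadraticMap Cfsg.Agent.H207.Uni Cfsg.Agent.ClassicalGeometry.OrthSemi

variable {F V : Type*} [Field F] [AddCommGroup V] [Module F V]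
variable {Q : QuadraticForm F V} {s : F ≃+* F} {st : V → V → V}

namespace SC

/-- The chain of `u`. -/
def chain (h : SC Q s st) (u : V) : ℕ → Submodule F V
  | 0 => ⊥
  | 1 => Submodule.span F {u}
  | 2 => h.Pi u
  | 3 => h.M1 u ⊔ h.M2 u
  | 4 => Pe Q u
  | _ + 5 => ⊤

variable (h : SC Q s st)

theorem chain_zero (u : V) : h.chain u 0 = ⊥ := rfl

theorem chain_five (u : V) : h.chain u 5 = ⊤ := rfl

theorem M1_sup_M2_le {u : V} (hu : Abs Q st u) : h.M1 u ⊔ h.M2 u ≤ Pe Q u := by
  rw [sup_le_iff]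
  exact ⟨fun z hz => h.polar_of_M1 hu hz, fun z hz => h.polar_of_M2 hu hz⟩

theorem chain_mono {u : V} (hu : Abs Q st u) (i : ℕ) : h.chain u i ≤ h.chain u (i + 1) := by
  match i with
  | 0 => exact bot_le
  | 1 =>
    change Submodule.span F {u} ≤ h.Pi u
    rw [Submodule.span_singleton_le_iff_mem]
    exact h.self_mem_Pi hu
  | 2 => exact (h.Pi_le_M1 u).trans le_sup_left
  | 3 => exact h.M1_sup_M2_le hu
  | 4 => exact le_top
  | n + 5 => exact le_top

/-- A criterion. -/
theorem isUni_of {u : V} {f : V → V} (hadd : ∀ x y, f (x + y) = f x + f y) (hsmul : ∀ (c : F) x, f (c • x) = c • f x)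
    (h1 : f u = u) (h2 : ∀ z ∈ h.Pi u, ∃ c : F, f z - z = c • u) (h3 : ∀ z, st u z = 0 → f z - z ∈ h.Pi u)
    (h4 : ∀ z, st z u = 0 → f z - z ∈ h.Pi u) (h5 : ∀ z, polar Q u z = 0 → f z - z ∈ h.M1 u ⊔ h.M2 u)
    (h6 : ∀ z, polar Q u (f z - z) = 0) : IsUni (h.chain u) f := by
  refine ⟨hadd, hsmul, fun i z hz => ?_⟩
  match i with
  | 0 =>
    obtain ⟨c, rfl⟩ := Submodule.mem_span_singleton.1 hz
    rw [hsmul, h1, sub_self]
    exact Submodule.zero_mem _
  | 1 =>
    obtain ⟨c, hc⟩ := h2 z hz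
    rw [hc]
    exact Submodule.smul_mem _ _ (Submodule.mem_span_singleton_self u)
  | 2 =>
    obtain ⟨x, hx, y, hy, rfl⟩ := Submodule.mem_sup.1 hz
    rw [hadd, add_sub_add_comm]
    exact Submodule.add_mem _ (h3 x hx) (h4 y hy)
  | 3 => exact h5 z hz
  | 4 => exact h6 z
  | n + 5 => trivial

omit h in
theorem f0_add (u w x y : V) : f0 Q u w (x + y) = f0 Q u w x + f0 Q u w y := by
  unfold f0
  rw [polar_add_right, polar_add_right]
  module

omit h in
theorem f0_smul (u w : V) (c : F) (x : V) : f0 Q u w (c • x) = c • f0 Q u w x := by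
  unfold f0
  rw [polar_smul_right, polar_smul_right]
  simp only [smul_eq_mul]
  module

include h

theorem f1_add (u w x y : V) : f1 st u w (x + y) = f1 st u w x + f1 st u w y := by
  unfold f1
  rw [h.add_right, h.add_left]
  abel

theorem f1_smul (u w : V) (c : F) (x : V) : f1 st u w (c • x) = c • f1 st u w x := by
  unfold f1
  rw [h.smul_right, h.smul_left, h.cube, smul_sub]

theorem f2_add (u w x y : V) : f2 st u w (x + y) = f2 st u w x + f2 st u w y := by
  unfold f2
  rw [h.add_left, h.add_right]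
  abel

theorem f2_smul (u w : V) (c : F) (x : V) : f2 st u w (c • x) = c • f2 st u w x := by
  unfold f2
  rw [h.smul_left, h.smul_right, h.cube, smul_sub]

section Fix

variable {u w : V} (hu : Abs Q st u) (hi : Iso2 Q u w)

include hu hi

omit hu in
theorem f1_of_M1 {z : V} (hz : st u z = 0) : f1 st u w z = z := by
  rw [f1, h.left'', hi.wu, map_zero, map_zero, zero_smul, hz, h.zero_left, sub_zero, sub_zero]

omit hu in
theorem f2_of_M2 {z : V} (hz : st z u = 0) : f2 st u w z = z := by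
  rw [f2, h.right'', hi.uw, map_zero, zero_smul, hz, h.zero_right, sub_zero, sub_zero]

omit h hu hi in
theorem f0_of_Pe {z : V} (hz : polar Q u z = 0) : f0 Q u w z = z - polar Q w z • u := by
  rw [f0, hz, zero_smul, zero_sub, sub_eq_add_neg]

theorem isUni_f0 : IsUni (h.chain u) (f0 Q u w) := by
  have key : ∀ z, polar Q u z = 0 → f0 Q u w z - z = (-polar Q w z) • u := by
    intro z hz
    rw [f0_of_Pe hz]
    module
  have hP : ∀ c : F, c • u ∈ h.Pi u := fun c => (h.Pi u).smul_mem c (h.self_mem_Pi hu)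
  refine h.isUni_of (f0_add u w) (f0_smul u w) ?_ (fun z hz => ⟨_, key z (h.polar_of_Pi hu hz)⟩) (fun z hz => ?_)
    (fun z hz => ?_) (fun z hz => ?_) (fun z => ?_)
  · rw [f0_of_Pe hi.uu, hi.wu, zero_smul, sub_zero]
  · rw [key z (h.polar_of_M1 hu hz)]
    exact hP _
  · rw [key z (h.polar_of_M2 hu hz)]
    exact hP _
  · rw [key z hz]
    exact Submodule.mem_sup_left ((hP _).1)
  · rw [f0, add_sub_cancel_left, polar_sub_right, polar_smul_right, polar_smul_right, hi.uw, hi.uu, smul_zero,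
      smul_zero, sub_zero]

theorem isUni_f1 : IsUni (h.chain u) (f1 st u w) := by
  refine h.isUni_of (h.f1_add u w) (h.f1_smul u w) (h.f1_of_M1 hi hu.sq)
    (fun z hz => ⟨0, by rw [h.f1_of_M1 hi hz.1, sub_self, zero_smul]⟩) (fun z hz => ?_)
    (fun z hz => ?_) (fun z hz => ?_) (fun z => ?_)
  · rw [h.f1_of_M1 hi hz, sub_self]
    exact Submodule.zero_mem _
  · rw [f1, sub_sub_cancel_left]
    refine Submodule.neg_mem _ ⟨h.uzu' hu _, ?_⟩
    change st (st (st w z) u) u = 0
    rw [h.zuu hu, h.assoc, hz, polar_zero_right, map_zero, map_zero, map_zero, zero_smul]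
  · rw [f1, sub_sub_cancel_left]
    exact Submodule.neg_mem _ (Submodule.mem_sup_left (h.uzu' hu _))
  · rw [f1, sub_sub_cancel_left, polar_neg_right, h.polar_of_M1 hu (h.uzu' hu _), neg_zero]

theorem isUni_f2 : IsUni (h.chain u) (f2 st u w) := by
  refine h.isUni_of (h.f2_add u w) (h.f2_smul u w) (h.f2_of_M2 hi hu.sq)
    (fun z hz => ⟨0, by rw [h.f2_of_M2 hi hz.2, sub_self, zero_smul]⟩) (fun z hz => ?_)
    (fun z hz => ?_) (fun z hz => ?_) (fun z => ?_)
  · rw [f2, sub_sub_cancel_left]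
    refine Submodule.neg_mem _ ⟨?_, h.uzu hu _⟩
    change st u (st u (st z w)) = 0
    rw [h.uuz hu, h.cyc, polar_comm, hz, polar_zero_left, map_zero, map_zero, map_zero, zero_smul]
  · rw [h.f2_of_M2 hi hz, sub_self]
    exact Submodule.zero_mem _
  · rw [f2, sub_sub_cancel_left]
    exact Submodule.neg_mem _ (Submodule.mem_sup_right (h.uzu hu _))
  · rw [f2, sub_sub_cancel_left, polar_neg_right, h.polar_of_M2 hu (h.uzu hu _), neg_zero]

end Fix

end SC

end Cfsg.Agent.H207.TriComp
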