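import Cfsg.Agent.H207.TriComp
import Cfsg.Agent.H198.TriDia

/-!
# Products describing triality automorphisms (helper207): definition

`Desc x st` : the product `st` describes the automorphism `x` of `P8 F`: related triples `(g, g₁, g₂)` of
semisimilarities (`g (p ⋆ q) = c (g₁ p ⋆ g₂ q)`) are permuted by `x`, and automorphisms commuting with `x` of order
prime to three come from semisimilarities preserving the product up to a scalar.
-/

set_option autoImplicit false

namespace Cfsg.Agent.H207.TriDesc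

open Module QuadraticMap Cfsg.Agent.LieClassical.OrthCore Cfsg.Agent.LieClassical.OrthTrans
  Cfsg.Agent.LieClassical.OrthSimple Cfsg.Agent.ClassicalGeometry.OrthAut1
  Cfsg.Agent.ClassicalGeometry.OrthSemi Cfsg.Agent.H198.Classes
  Cfsg.Agent.LieClassical.QuadForms Cfsg.Agent.H198.ClassesPlus
  Cfsg.Agent.ClassicalGeometry.TrialityOct Cfsg.Agent.ClassicalGeometry.Triality
  Cfsg.Agent.ClassicalGeometry.TrialitySpaces Cfsg.Agent.H198.TriBase Cfsg.Agent.H198.TriAut
  Cfsg.Agent.H207.TriComp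

universe u

variable {F : Type u} [Field F]

/-- The product `st` describes the automorphism `x`. -/
structure Desc (x : MulAut (P8 F)) (st : V8 F → V8 F → V8 F) : Prop where
  conj : ∀ g g₁ g₂ : G8 F, (∃ c : F, c ≠ 0 ∧ ∀ p q, g.1 (st p q) = c • st (g₁.1 p) (g₂.1 q)) →
    x * Psi _ g * x⁻¹ = Psi _ g₁ ∧ x⁻¹ * Psi _ g * x = Psi _ g₂
  cent : ∀ y : MulAut (P8 F), y * x = x * y → (orderOf y).Coprime 3 →
    ∃ g : G8 F, y = Psi _ g ∧ ∃ c : F, c ≠ 0 ∧ ∀ p q, g.1 (st p q) = c • st (g.1 p) (g.1 q)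

end Cfsg.Agent.H207.TriDesc
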