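import Cfsg.Agent.CpAutTri.FinD
import Cfsg.Agent.ChevalleyStructure.D4TwN
import Cfsg.Agent.ChevalleyStructure.UnipProd
import Cfsg.Agent.S1036
import Cfsg.Agent.S1037

/-!
# The centralizer of the standard triality automorphism of `D₄(K)` is `G₂(K)` (S2734)

`equiv_G2` : `{g ∈ D₄(K) | sig id g = g} ≃* G₂(K)` for every field `K`.
-/

set_option autoImplicit false

namespace Cfsg.Agent.H207.TriFix

open Cfsg.Lie Cfsg.Agent.ChevalleyStructure
open Cfsg.Agent.ChevalleyStructure.LaurentWord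
open Cfsg.Agent.ChevalleyStructure.D4Comm
open Cfsg.Agent.ChevalleyStructure.D4NConj (nR hR)
open Cfsg.Agent.ChevalleyStructure.D4RGD
open Cfsg.Agent.ChevalleyStructure.D4Cols
open Cfsg.Agent.ChevalleyStructure.GraphSymm
open Cfsg.Agent.ChevalleyStructure.D4Fixed (sig fix coe_sig mem_fix)
open Cfsg.Agent.CpAutTri.Bru Cfsg.Agent.CpAutTri.Fam
open Cfsg.Agent.CpAutTri.Nor Cfsg.Agent.CpAutTri.Gen Cfsg.Agent.CpAutTri.Iota Cfsg.Agent.CpAutTri.Hom
open scoped Matrix

universe u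

/-! ### the uniform check of the intertwining map -/

/-- the roots and signs of the orbit of `r` -/
def wrd (r : Fin 24) : List (ℕ × ℤ) :=
  if rho r = r then [(r.val, 1)]
  else [(r.val, 1), ((rho r).val, eps r), ((rho (rho r)).val, eps (rho r) * eps r)]

/-- the root of `G₂` of an orbit -/
def g2 (r : Fin 24) : ℕ := own (4 + r.val) - 2

/-- the sign of `G₂` of an orbit -/
def g2s (r : Fin 24) : ℤ := cf (4 + r.val)

theorem check_all : ∀ r : Fin 24, checkInt 28 24 14 12 (col chevD4) (col chevG2) im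
    ((wrd r).map fun p => (p.1, p.2, 1, 0)) [(g2 r, g2s r, 1, 0)] = true := by
  decide +kernel

theorem g2_pos : ∀ r : Fin 24, 12 ≤ r.val ↔ 6 ≤ g2 r := by decide +kernel

theorem g2_lt : ∀ r : Fin 24, g2 r < 12 := by decide +kernel

theorem g2s_cases : ∀ r : Fin 24, g2s r = 1 ∨ g2s r = -1 := by decide +kernel

section
variable {K : Type u} [Field K]

/-- the elements of the relative root groups -/
noncomputable def E (r : Fin 24) (t : K) : GL chevD4.Idx K :=
  if rho r = r then xG r.val t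
  else xG r.val t * xG (rho r).val ((eps r : K) * t) * xG (rho (rho r)).val ((eps (rho r) : K) * ((eps r : K) * t))

theorem coe_E (r : Fin 24) (t : K) : ((E r t : GL chevD4.Idx K) : Matrix chevD4.Idx chevD4.Idx K) =
    chevD4.wordMat K ((wrd r).map fun p => (p.1, (p.2 : K) * t)) := by
  unfold E wrd
  split_ifs with h
  · simp [ChevalleyDatum.wordMat, coe_xG]
  · simp [ChevalleyDatum.wordMat, coe_xG, mul_assoc]

theorem int_E (r : Fin 24) (t : K) :
    ((E r t : GL chevD4.Idx K) : Matrix chevD4.Idx chevD4.Idx K) * I K =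
      I K * chevG2.x K (g2 r) ((g2s r : K) * t) := by
  rw [coe_E]
  by_cases ht : t = 0
  · subst ht
    have h1 : chevD4.wordMat K ((wrd r).map fun p => (p.1, (p.2 : K) * 0)) = 1 := by
      unfold ChevalleyDatum.wordMat
      rw [List.map_map]
      apply List.prod_eq_one
      intro m hm
      rw [List.mem_map] at hm
      obtain ⟨s, -, rfl⟩ := hm
      show chevD4.x K s.1 ((s.2 : K) * 0) = 1
      rw [mul_zero]
      exact Elts.x_zero (by simp) s.1
    rw [h1, mul_zero, Elts.x_zero (by simp), Matrix.one_mul, Matrix.mul_one]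
  · have h2 := int_of_check (F := K) chevD4 chevG2 colsOK colsG2 ht one_ne_zero (check_all r)
    have e1 : evW t 1 ((wrd r).map fun p => (p.1, ((p.2, 1, 0) : Mono))) =
        (wrd r).map fun p => (p.1, (p.2 : K) * t) := by
      unfold evW
      rw [List.map_map]
      apply List.map_congr_left
      intro p _
      simp [evM]
    have e2 : chevG2.wordMat K (evW t 1 [(g2 r, (g2s r, 1, 0))]) = chevG2.x K (g2 r) ((g2s r : K) * t) := by
      simp [ChevalleyDatum.wordMat, evW, evM]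
    rw [e1, e2] at h2
    exact h2

/-- `rho3` on the relative root groups -/
theorem rho3_E {r : Fin 24} {t : K} (h : E r t ∈ fix (RingHom.id K)) :
    rho3 K ⟨E r t, h⟩ = Elts.xG hG2 (g2 r) ((g2s r : K) * t) := by
  apply Units.ext
  rw [coe_rho3, Elts.coe_xG]
  show J K * (((E r t : GL chevD4.Idx K) : Matrix chevD4.Idx chevD4.Idx K) * I K) = _
  rw [int_E, ← Matrix.mul_assoc, J_mul_I, Matrix.one_mul]

/-! ### the fixed points are generated by the root groups -/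

variable (K) in
/-- the family `{id}` -/
abbrev Sid : Set (K →+* K) := {RingHom.id K}

theorem id_mem : RingHom.id K ∈ Sid K := rfl

theorem mem_kF_id (t : K) : t ∈ kF (Sid K) :=
  mem_kF.2 fun φ hφ => by rw [Set.mem_singleton_iff.1 hφ]; rfl

theorem mem_FS_id {g : GL chevD4.Idx K} : g ∈ FS (Sid K) ↔ sig (RingHom.id K) g = g := by
  rw [FS_singleton]
  exact Iff.rfl

theorem hφ1 : ∀ x : K, (RingHom.id K) x = x ^ 1 := fun x => (pow_one x).symm

theorem tw_le_DS : twistedD4 K 1 ≤ DS (Sid K) := by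
  refine D4Fixed.twisted_induction (φ := RingHom.id K) hφ1 ?_ ?_ ?_ ?_
  · intro t _
    have : D4Cols.xU 14 t = xG 14 t := Units.ext rfl
    rw [this]
    exact x14_mem (mem_kF_id t)
  · intro t _
    have : D4Cols.xU 9 t = xG 9 t := Units.ext rfl
    rw [this]
    exact x9_mem (mem_kF_id t)
  · intro t
    rw [← Cfsg.Agent.CpAutTri.Gen.X_eq]
    exact X_mem (mem_kF_id t)
  · intro t
    rw [← Cfsg.Agent.CpAutTri.Gen.Y_eq]
    exact Y_mem (mem_kF_id t)

/-- fixed torus elements -/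
theorem H_fix {h : GL chevD4.Idx K} (hh : h ∈ chevD4.diagonalSubgroup K) (hf : sig (RingHom.id K) h = h) :
    ∃ t s : Kˣ, h = D4H1.hel (RingHom.id K) t s := by
  obtain ⟨χ, rfl⟩ := D4Torus.diagonal_le hh
  obtain ⟨-, h2, h3, -⟩ := D4Torus.tor_fix_iff_aux (RingHom.id K) (χ := χ) hf
  have h2' : χ 2 = χ 0 := Units.ext h2
  have h3' : χ 3 = χ 0 := (Units.ext h3 : χ 3 = χ 2).trans h2'
  refine ⟨χ 0 ^ 2 * χ 1, χ 0 ^ 3 * χ 1 ^ 2, ?_⟩
  show D4Torus.tor χ = _
  unfold D4H1.hel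
  have e1 : Units.map ((RingHom.id K : K →+* K) : K →* K) = MonoidHom.id Kˣ := by
    ext x
    rfl
  congr 1
  rw [e1]
  simp only [MonoidHom.id_apply]
  have c : ∀ a b : Kˣ, a * b = b * a := mul_comm
  funext i
  fin_cases i
  · show χ 0 = D4Torus.hchar 18 _ 0 * D4Torus.hchar 13 _ 0 * D4Torus.hchar 12 _ 0 * D4Torus.hchar 14 _ 0
    rw [D4H1.hchar_18_0, D4H1.hchar_13_0, D4H1.hchar_12_0, D4H1.hchar_14_0]
    apply Units.ext
    have h0 := (χ 0).ne_zero
    have h1 := (χ 1).ne_zero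
    push_cast
    field_simp
  · show χ 1 = D4Torus.hchar 18 _ 1 * D4Torus.hchar 13 _ 1 * D4Torus.hchar 12 _ 1 * D4Torus.hchar 14 _ 1
    rw [D4H1.hchar_18_1, D4H1.hchar_13_1, D4H1.hchar_12_1, D4H1.hchar_14_1]
    apply Units.ext
    have h0 := (χ 0).ne_zero
    have h1 := (χ 1).ne_zero
    push_cast
    field_simp
  · show χ 2 = D4Torus.hchar 18 _ 2 * D4Torus.hchar 13 _ 2 * D4Torus.hchar 12 _ 2 * D4Torus.hchar 14 _ 2
    have a1 : ∀ t : Kˣ, D4Torus.hchar 18 t 2 = t ^ (0 : ℤ) := fun t => rfl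
    have a2 : ∀ t : Kˣ, D4Torus.hchar 13 t 2 = t ^ (2 : ℤ) := fun t => rfl
    have a3 : ∀ t : Kˣ, D4Torus.hchar 12 t 2 = t ^ (0 : ℤ) := fun t => rfl
    have a4 : ∀ t : Kˣ, D4Torus.hchar 14 t 2 = t ^ (-1 : ℤ) := fun t => rfl
    rw [a1, a2, a3, a4, h2']
    apply Units.ext
    have h0 := (χ 0).ne_zero
    have h1 := (χ 1).ne_zero
    push_cast
    field_simp
  · show χ 3 = D4Torus.hchar 18 _ 3 * D4Torus.hchar 13 _ 3 * D4Torus.hchar 12 _ 3 * D4Torus.hchar 14 _ 3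
    have a1 : ∀ t : Kˣ, D4Torus.hchar 18 t 3 = t ^ (0 : ℤ) := fun t => rfl
    have a2 : ∀ t : Kˣ, D4Torus.hchar 13 t 3 = t ^ (0 : ℤ) := fun t => rfl
    have a3 : ∀ t : Kˣ, D4Torus.hchar 12 t 3 = t ^ (2 : ℤ) := fun t => rfl
    have a4 : ∀ t : Kˣ, D4Torus.hchar 14 t 3 = t ^ (-1 : ℤ) := fun t => rfl
    rw [a1, a2, a3, a4, h3']
    apply Units.ext
    have h0 := (χ 0).ne_zero
    have h1 := (χ 1).ne_zero
    push_cast
    field_simp

theorem hel_mem_DS (t s : Kˣ) : D4H1.hel (RingHom.id K) t s ∈ DS (Sid K) :=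
  tw_le_DS (D4H1.hel_mem_twisted hφ1 t s rfl)

theorem N_fix {n : GL chevD4.Idx K} (hn : n ∈ chevD4.monomialSubgroup K) (hf : sig (RingHom.id K) n = n) :
    n ∈ DS (Sid K) := by
  have h1 : n ∈ D4Perm.NT K := D4Perm.mem_NT_of_comm (g := ⟨n, hn⟩) (D4TwN.comm_of_fix (RingHom.id K) hf)
  have hc : Subgroup.closure {D4Perm.nA K, D4Perm.nB K} ≤ chevD4.monomialSubgroup K ⊓ DS (Sid K) := by
    rw [Subgroup.closure_le]
    rintro g (rfl | rfl)
    · exact ⟨D4Perm.nA_mem K, tw_le_DS (D4TwN.nA_mem_twisted hφ1)⟩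
    · exact ⟨D4Perm.nB_mem K, tw_le_DS (D4TwN.nB_mem_twisted hφ1)⟩
  have h2 : Subgroup.closure {D4Perm.nA K, D4Perm.nB K} ≤
      Subgroup.normalizer (chevD4.diagonalSubgroup K : Set (GL chevD4.Idx K)) := by
    intro n hn
    have hn' : n ∈ chevD4.monomialSubgroup K := (hc hn).1
    rw [Subgroup.mem_normalizer_iff]
    intro h
    constructor
    · exact fun hh => conj_mem_diagonal hn' hh
    · intro hh
      have := conj_mem_diagonal (inv_mem hn') hh
      have e : n⁻¹ * (n * h * n⁻¹) * n⁻¹⁻¹ = h := by group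
      rwa [e] at this
  rw [D4Perm.NT_def] at h1
  have h3 : (n : GL chevD4.Idx K) ∈ ((Subgroup.closure {D4Perm.nA K, D4Perm.nB K} ⊔ chevD4.diagonalSubgroup K :
      Subgroup (GL chevD4.Idx K)) : Set (GL chevD4.Idx K)) := h1
  rw [Subgroup.coe_mul_of_left_le_normalizer_right _ _ h2] at h3
  obtain ⟨n, hnc, h, hh, rfl⟩ := h3
  have hn' : n ∈ DS (Sid K) := (hc hnc).2
  have hnf : sig (RingHom.id K) n = n := mem_FS_id.1 (DS_le_FS _ hn')
  have hhf : sig (RingHom.id K) h = h := by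
    have e : sig (RingHom.id K) (n * h) = n * h := hf
    rw [map_mul, hnf] at e
    exact mul_left_cancel e
  obtain ⟨t, s, rfl⟩ := H_fix hh hhf
  exact mul_mem hn' (hel_mem_DS t s)

/-- the fixed points are generated by the relative root groups -/
theorem CS_eq : CS (Sid K) = DS (Sid K) := by
  apply le_antisymm _ (DS_le_CS _)
  rintro g ⟨hg, hf⟩
  obtain ⟨u, hu, n, hn, v, hv, rfl⟩ := fix_form hg hf
  exact mul_mem (mul_mem (U_le_DS _ hu) (N_fix hn.1 (mem_FS_id.1 hn.2))) (U_le_DS _ hv)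

/-! ### faithfulness -/

theorem hG2' : UnipOrd.InList chevG2 := hG2

/-- conjugation of the relative root elements by fixed elements of `N` -/
theorem conj_E {n : GL chevD4.Idx K} (hn : n ∈ chevD4.monomialSubgroup K) (hf : sig (RingHom.id K) n = n)
    {w : Equiv.Perm (Fin 24)} (hw : Act n w) (r : Fin 24) {t : K} (ht : t ≠ 0) :
    ∃ u : K, u ≠ 0 ∧ n * E r t * n⁻¹ = E (w r) u := by
  have hc := act_comm hn hw hf
  obtain ⟨u, hu, e⟩ := hw.x_ne r ht
  refine ⟨u, hu, ?_⟩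
  have step : ∀ (r : Fin 24) (t u : K), n * xG r.val t * n⁻¹ = xG (w r).val u →
      n * xG (rho r).val ((eps r : K) * t) * n⁻¹ = xG (rho (w r)).val ((eps (w r) : K) * u) := by
    intro r t u e
    have h1 := congrArg (sig (RingHom.id K)) e
    rw [map_mul, map_mul, map_inv, sig_x, sig_x, hf] at h1
    exact h1
  have e1 := step r t u e
  have e2 := step (rho r) _ _ (by rw [e1, hc])
  rw [hc] at e2
  have hfix : rho (w r) = w r ↔ rho r = r := by
    rw [← hc]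
    exact w.injective.eq_iff
  unfold E
  by_cases h : rho r = r
  · rw [if_pos h, if_pos (hfix.2 h)]
    exact e
  · rw [if_neg h, if_neg (fun h' => h (hfix.1 h')), ← e, ← e1, ← e2]
    group

theorem E14 (t : K) : E 14 t = xG 14 t := by
  have h : rho 14 = 14 := by decide +kernel
  unfold E
  rw [if_pos h]
  rfl

theorem E18 (t : K) : E 18 t = CpAutTri.Gen.X t := by
  have h : rho 18 ≠ 18 := by decide +kernel
  have h1 : rho 18 = 13 := by decide +kernel
  have h2 : rho 13 = 12 := by decide +kernel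
  have h3 : eps 18 = 1 := by decide +kernel
  have h4 : eps 13 = 1 := by decide +kernel
  unfold E CpAutTri.Gen.X
  rw [if_neg h, h1, h2, h3, h4]
  simp only [Int.cast_one, one_mul]
  rfl

theorem E14_fix (t : K) : E 14 t ∈ fix (RingHom.id K) := by
  rw [E14]
  exact DS_le_fix id_mem (x14_mem (mem_kF_id t))

theorem E18_fix (t : K) : E 18 t ∈ fix (RingHom.id K) := by
  rw [E18]
  exact DS_le_fix id_mem (X_mem (mem_kF_id t))

theorem isPos_iff (r : ℕ) : chevG2.IsPosRoot r ↔ 6 ≤ r ∧ r < 12 := UnipOrd.isPosRoot_iff hG2' r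

theorem isNeg_iff (r : ℕ) (h : r < 6) : chevG2.IsNegRoot r := by
  have h1 : ∀ r < 6, chevG2.IsNegRoot r := by decide +kernel
  exact h1 r h

theorem x_pos {r : ℕ} (h1 : 6 ≤ r) (h2 : r < 12) (t : K) : Elts.xG hG2 r t ∈ chevG2.posUnipotent K :=
  Elts.xG_mem_posUnipotent hG2 ((isPos_iff r).2 ⟨h1, h2⟩) t

theorem x_neg {r : ℕ} (h : r < 6) (t : K) : Elts.xG hG2 r t ∈ chevG2.negUnipotent K :=
  Elts.xG_mem_negUnipotent hG2 (isNeg_iff r h) t

theorem UV {g : GL chevG2.Idx K} (h1 : g ∈ chevG2.posUnipotent K) (h2 : g ∈ chevG2.negUnipotent K) : g = 1 := by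
  have h3 : g ∈ chevG2.borelSubgroup K ⊓ chevG2.negUnipotent K := ⟨Subgroup.mem_sup_left h1, h2⟩
  rwa [(Cfsg.Agent.S1037.result (F := K) chevG2 hG2).1, Subgroup.mem_bot] at h3

/-- a fixed element of `N` whose image is in `U(G₂)` maps `14`, `18` to positive roots -/
theorem pos_of_image {n : GL chevD4.Idx K} (hn : n ∈ chevD4.monomialSubgroup K) (hf : n ∈ fix (RingHom.id K))
    {w : Equiv.Perm (Fin 24)} (hw : Act n w) (hU : rho3 K ⟨n, hf⟩ ∈ chevG2.posUnipotent K) {r : Fin 24}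
    (hr : 12 ≤ r.val) (hE : ∀ t : K, E r t ∈ fix (RingHom.id K)) : 12 ≤ (w r).val := by
  by_contra hlt
  obtain ⟨u, hu, e⟩ := conj_E hn hf hw r (one_ne_zero (α := K))
  have hm : E (w r) u ∈ fix (RingHom.id K) := by
    rw [← e]
    exact Subgroup.mul_mem _ (Subgroup.mul_mem _ hf (hE 1)) (Subgroup.inv_mem _ hf)
  have e' : (⟨n, hf⟩ : ↥(fix (RingHom.id K))) * ⟨E r 1, hE 1⟩ * ⟨n, hf⟩⁻¹ = ⟨E (w r) u, hm⟩ := Subtype.ext e
  have e2 := congrArg (rho3 K) e'
  rw [map_mul, map_mul, map_inv, rho3_E, rho3_E] at e2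
  have h1 : rho3 K ⟨n, hf⟩ * Elts.xG hG2 (g2 r) ((g2s r : K) * 1) * (rho3 K ⟨n, hf⟩)⁻¹ ∈ chevG2.posUnipotent K :=
    mul_mem (mul_mem hU (x_pos ((g2_pos r).1 hr) (g2_lt r) _)) (inv_mem hU)
  rw [e2] at h1
  have h2 : g2 (w r) < 6 := by
    by_contra h
    exact hlt ((g2_pos _).2 (by omega))
  have h3 := UV h1 (x_neg h2 _)
  rw [Elts.xG_eq_one_iff hG2 (lt_of_lt_of_le (g2_lt _) (le_refl 12))] at h3
  rcases g2s_cases (w r) with h4 | h4 <;> rw [h4] at h3 <;> simp [hu] at h3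

theorem E_fixed {r : Fin 24} (h : rho r = r) (t : K) : E r t = xG r.val t := by
  unfold E
  rw [if_pos h]

theorem E_moved {r : Fin 24} (h : rho r ≠ r) (t : K) : E r t = xG r.val t * xG (rho r).val ((eps r : K) * t) *
    xG (rho (rho r)).val ((eps (rho r) : K) * ((eps r : K) * t)) := by
  unfold E
  rw [if_neg h]

theorem E19 (t : K) : E 19 t = xG 19 t * xG 16 (-t) * xG 15 (-t) := by
  have h : rho 19 ≠ 19 := by decide +kernel
  have h1 : rho 19 = 16 := by decide +kernel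
  have h2 : rho 16 = 15 := by decide +kernel
  have h3 : eps 19 = -1 := by decide +kernel
  have h4 : eps 16 = 1 := by decide +kernel
  rw [E_moved h, h1, h2, h3, h4]
  simp only [Int.cast_one, Int.cast_neg, one_mul, neg_mul]
  rfl

theorem E21 (t : K) : E 21 t = xG 21 t * xG 17 (-t) * xG 20 t := by
  have h : rho 21 ≠ 21 := by decide +kernel
  have h1 : rho 21 = 17 := by decide +kernel
  have h2 : rho 17 = 20 := by decide +kernel
  have h3 : eps 21 = -1 := by decide +kernel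
  have h4 : eps 17 = -1 := by decide +kernel
  rw [E_moved h, h1, h2, h3, h4]
  simp only [Int.cast_one, Int.cast_neg, one_mul, neg_mul, neg_neg]
  rfl

theorem E22 (t : K) : E 22 t = xG 22 t := E_fixed (by decide +kernel) t

theorem E23 (t : K) : E 23 t = xG 23 t := E_fixed (by decide +kernel) t

theorem elt_E (a b c d e f : K) : D4U.elt (RingHom.id K) a b c d e f =
    E 14 a * E 18 b * E 19 c * E 21 d * E 22 e * E 23 f := by
  rw [D4U.elt_eq, E14, E18, E19, E21, E22, E23]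
  rfl

theorem E_eq_elt : (∀ t : K, E 14 t = D4U.elt (RingHom.id K) t 0 0 0 0 0) ∧
    (∀ t : K, E 18 t = D4U.elt (RingHom.id K) 0 t 0 0 0 0) ∧ (∀ t : K, E 19 t = D4U.elt (RingHom.id K) 0 0 t 0 0 0) ∧
    (∀ t : K, E 21 t = D4U.elt (RingHom.id K) 0 0 0 t 0 0) ∧ (∀ t : K, E 22 t = D4U.elt (RingHom.id K) 0 0 0 0 t 0) ∧
    (∀ t : K, E 23 t = D4U.elt (RingHom.id K) 0 0 0 0 0 t) := by
  have z14 : E 14 (0 : K) = 1 := by rw [E14, xG_zero]
  have z18 : E 18 (0 : K) = 1 := by rw [E18, CpAutTri.Gen.X, xG_zero, xG_zero, xG_zero]; simp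
  have z19 : E 19 (0 : K) = 1 := by rw [E19, neg_zero, xG_zero, xG_zero, xG_zero]; simp
  have z21 : E 21 (0 : K) = 1 := by rw [E21, neg_zero, xG_zero, xG_zero, xG_zero]; simp
  have z22 : E 22 (0 : K) = 1 := by rw [E22, xG_zero]
  have z23 : E 23 (0 : K) = 1 := by rw [E23, xG_zero]
  refine ⟨fun t => ?_, fun t => ?_, fun t => ?_, fun t => ?_, fun t => ?_, fun t => ?_⟩ <;>
    rw [elt_E] <;> simp only [z14, z18, z19, z21, z22, z23, one_mul, mul_one]

theorem elt_fix (a b c d e f : K) : D4U.elt (RingHom.id K) a b c d e f ∈ fix (RingHom.id K) :=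
  (D4U.elt_mem_fix_iff (fun _ => rfl) a b c d e f).2 ⟨rfl, rfl, rfl⟩

/-- `rho3` is injective on the fixed points in `U` -/
theorem inj_U {u : GL chevD4.Idx K} (hu : u ∈ chevD4.posUnipotent K) (hf : u ∈ fix (RingHom.id K)) :
    rho3 K ⟨u, hf⟩ ∈ chevG2.posUnipotent K ∧ (rho3 K ⟨u, hf⟩ = 1 → u = 1) := by
  obtain ⟨a, b, c, d, e, f, rfl⟩ := D4U.exists_elt hu hf
  obtain ⟨e14, e18, e19, e21, e22, e23⟩ := E_eq_elt (K := K)
  have f14 : ∀ t : K, E 14 t ∈ fix (RingHom.id K) := fun t => by rw [e14]; exact elt_fix _ _ _ _ _ _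
  have f18 : ∀ t : K, E 18 t ∈ fix (RingHom.id K) := fun t => by rw [e18]; exact elt_fix _ _ _ _ _ _
  have f19 : ∀ t : K, E 19 t ∈ fix (RingHom.id K) := fun t => by rw [e19]; exact elt_fix _ _ _ _ _ _
  have f21 : ∀ t : K, E 21 t ∈ fix (RingHom.id K) := fun t => by rw [e21]; exact elt_fix _ _ _ _ _ _
  have f22 : ∀ t : K, E 22 t ∈ fix (RingHom.id K) := fun t => by rw [e22]; exact elt_fix _ _ _ _ _ _
  have f23 : ∀ t : K, E 23 t ∈ fix (RingHom.id K) := fun t => by rw [e23]; exact elt_fix _ _ _ _ _ _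
  have h1 : (⟨D4U.elt (RingHom.id K) a b c d e f, hf⟩ : ↥(fix (RingHom.id K))) =
      ⟨E 14 a, f14 a⟩ * ⟨E 18 b, f18 b⟩ * ⟨E 19 c, f19 c⟩ * ⟨E 21 d, f21 d⟩ * ⟨E 22 e, f22 e⟩ * ⟨E 23 f, f23 f⟩ :=
    Subtype.ext (elt_E a b c d e f)
  have h2 : rho3 K ⟨D4U.elt (RingHom.id K) a b c d e f, hf⟩ = Elts.xG hG2 (g2 14) ((g2s 14 : K) * a) *
      Elts.xG hG2 (g2 18) ((g2s 18 : K) * b) * Elts.xG hG2 (g2 19) ((g2s 19 : K) * c) *
      Elts.xG hG2 (g2 21) ((g2s 21 : K) * d) * Elts.xG hG2 (g2 22) ((g2s 22 : K) * e) *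
      Elts.xG hG2 (g2 23) ((g2s 23 : K) * f) := by
    rw [h1]
    simp only [map_mul]
    rw [rho3_E, rho3_E, rho3_E, rho3_E, rho3_E, rho3_E]
  have k14 : g2 14 = 6 ∧ g2s 14 = 1 := by decide +kernel
  have k18 : g2 18 = 7 ∧ g2s 18 = 1 := by decide +kernel
  have k19 : g2 19 = 8 ∧ g2s 19 = 1 := by decide +kernel
  have k21 : g2 21 = 9 ∧ g2s 21 = -1 := by decide +kernel
  have k22 : g2 22 = 10 ∧ g2s 22 = -1 := by decide +kernel
  have k23 : g2 23 = 11 ∧ g2s 23 = -1 := by decide +kernel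
  rw [h2, k14.1, k14.2, k18.1, k18.2, k19.1, k19.2, k21.1, k21.2, k22.1, k22.2, k23.1, k23.2]
  simp only [Int.cast_one, Int.cast_neg, one_mul, neg_mul]
  refine ⟨mul_mem (mul_mem (mul_mem (mul_mem (mul_mem (x_pos (by norm_num) (by norm_num) _)
    (x_pos (by norm_num) (by norm_num) _)) (x_pos (by norm_num) (by norm_num) _))
    (x_pos (by norm_num) (by norm_num) _)) (x_pos (by norm_num) (by norm_num) _))
    (x_pos (by norm_num) (by norm_num) _), fun h => ?_⟩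
  have key : Elts.wordG hG2 ((UnipProd.rootsGE chevG2 6).map fun r => (r, (fun r : ℕ => match r with
      | 6 => a | 7 => b | 8 => c | 9 => -d | 10 => -e | 11 => -f | _ => 0 : ℕ → K) r)) =
      Elts.wordG hG2 ((UnipProd.rootsGE chevG2 6).map fun r => (r, (fun _ => 0 : ℕ → K) r)) := by
    have e1 : UnipProd.rootsGE chevG2 6 = [6, 7, 8, 9, 10, 11] := by decide +kernel
    rw [e1]
    unfold Elts.wordG
    simp only [List.map_cons, List.map_nil, List.prod_cons, List.prod_nil, mul_one, Elts.xG_zero]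
    rw [← h]
    simp only [mul_assoc]
  have h3 := UnipProd.prod_injective hG2' (by decide +kernel : chevG2.nroots / 2 ≤ 6) key
  have hn : chevG2.nroots = 12 := rfl
  have t6 : a = 0 := h3 6 (by norm_num) (by rw [hn]; norm_num)
  have t7 : b = 0 := h3 7 (by norm_num) (by rw [hn]; norm_num)
  have t8 : c = 0 := h3 8 (by norm_num) (by rw [hn]; norm_num)
  have t9 : -d = 0 := h3 9 (by norm_num) (by rw [hn]; norm_num)
  have t10 : -e = 0 := h3 10 (by norm_num) (by rw [hn]; norm_num)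
  have t11 : -f = 0 := h3 11 (by norm_num) (by rw [hn]; norm_num)
  rw [neg_eq_zero] at t9 t10 t11
  subst t6 t7 t8 t9 t10 t11
  rw [elt_E, E14, E18, E19, E21, E22, E23, CpAutTri.Gen.X]
  simp only [neg_zero, xG_zero, mul_one]

/-! ### the torus -/

/-- the graph of `rho3` -/
def R (g : GL chevD4.Idx K) (y : GL chevG2.Idx K) : Prop := ∃ h : g ∈ fix (RingHom.id K), rho3 K ⟨g, h⟩ = y

theorem R.mul {g g' : GL chevD4.Idx K} {y y' : GL chevG2.Idx K} (h : R g y) (h' : R g' y') : R (g * g') (y * y') := by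
  obtain ⟨h1, rfl⟩ := h
  obtain ⟨h2, rfl⟩ := h'
  exact ⟨mul_mem h1 h2, by rw [← map_mul]; rfl⟩

theorem R.one : R (1 : GL chevD4.Idx K) 1 := ⟨one_mem _, map_one _⟩

theorem R7 (t : K) : R (D4Fixed.X (RingHom.id K) t) (Elts.xG hG2 7 t) := by
  have e : D4Fixed.X (RingHom.id K) t = CpAutTri.Gen.X t := (CpAutTri.Gen.X_eq t).symm
  have hm : CpAutTri.Gen.X t ∈ fix (RingHom.id K) := by rw [← E18]; exact E18_fix t
  rw [e]
  exact ⟨hm, rho3_gen (r := 7) (o := [18, 13, 12]) (by simp [gens]) hm (coe_X t)⟩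

theorem R4 (t : K) : R (D4Fixed.Y (RingHom.id K) t) (Elts.xG hG2 4 t) := by
  have e : D4Fixed.Y (RingHom.id K) t = CpAutTri.Gen.Y t := (CpAutTri.Gen.Y_eq t).symm
  have hm : CpAutTri.Gen.Y t ∈ fix (RingHom.id K) := DS_le_fix id_mem (Y_mem (mem_kF_id t))
  rw [e]
  exact ⟨hm, rho3_gen (r := 4) (o := [5, 10, 11]) (by simp [gens]) hm (coe_Y t)⟩

theorem R6 (t : K) : R (D4Cols.xU 14 t) (Elts.xG hG2 6 t) := by
  have e : D4Cols.xU 14 t = xG 14 t := Units.ext rfl
  have hm : xG 14 t ∈ fix (RingHom.id K) := DS_le_fix id_mem (x14_mem (mem_kF_id t))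
  rw [e]
  exact ⟨hm, rho3_gen (r := 6) (o := [14]) (by simp [gens]) hm (coe_x14 t)⟩

theorem R5 (t : K) : R (D4Cols.xU 9 t) (Elts.xG hG2 5 t) := by
  have e : D4Cols.xU 9 t = xG 9 t := Units.ext rfl
  have hm : xG 9 t ∈ fix (RingHom.id K) := DS_le_fix id_mem (x9_mem (mem_kF_id t))
  rw [e]
  exact ⟨hm, rho3_gen (r := 5) (o := [9]) (by simp [gens]) hm (coe_x9 t)⟩

theorem R_outer (t : K) : R (D4Cols.wU (chevD4.hWord 18 t) * D4Cols.wU (chevD4.hWord 13 t) *
    D4Cols.wU (chevD4.hWord 12 t)) (Elts.hG hG2 7 t) := by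
  have h := D4H1.h_outer_eq (RingHom.id K) t
  have h' : D4Cols.wU (chevD4.hWord 18 t) * D4Cols.wU (chevD4.hWord 13 t) * D4Cols.wU (chevD4.hWord 12 t) =
      D4Fixed.X (RingHom.id K) t * (D4Fixed.Y (RingHom.id K) (-t⁻¹) * (D4Fixed.X (RingHom.id K) t *
        (D4Fixed.X (RingHom.id K) (-1) * (D4Fixed.Y (RingHom.id K) (-(-1)⁻¹) *
          (D4Fixed.X (RingHom.id K) (-1) * 1))))) := h.symm
  have e : Elts.hG hG2 7 t = Elts.xG hG2 7 t * (Elts.xG hG2 4 (-t⁻¹) * (Elts.xG hG2 7 t *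
      (Elts.xG hG2 7 (-1) * (Elts.xG hG2 4 (-(-1)⁻¹) * (Elts.xG hG2 7 (-1) * 1))))) := rfl
  rw [h', e]
  exact (R7 _).mul ((R4 _).mul ((R7 _).mul ((R7 _).mul ((R4 _).mul ((R7 _).mul R.one)))))

theorem R_14 (t : K) : R (D4Cols.wU (chevD4.hWord 14 t)) (Elts.hG hG2 6 t) := by
  have h' : D4Cols.wU (chevD4.hWord 14 t) =
      D4Cols.xU 14 t * (D4Cols.xU 9 (-t⁻¹) * (D4Cols.xU 14 t *
        (D4Cols.xU 14 (-1) * (D4Cols.xU 9 (-(-1)⁻¹) * (D4Cols.xU 14 (-1) * 1))))) := rfl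
  have e : Elts.hG hG2 6 t = Elts.xG hG2 6 t * (Elts.xG hG2 5 (-t⁻¹) * (Elts.xG hG2 6 t *
      (Elts.xG hG2 6 (-1) * (Elts.xG hG2 5 (-(-1)⁻¹) * (Elts.xG hG2 6 (-1) * 1))))) := rfl
  rw [h', e]
  exact (R6 _).mul ((R5 _).mul ((R6 _).mul ((R6 _).mul ((R5 _).mul ((R6 _).mul R.one)))))

theorem R_hel (t s : Kˣ) : ∃ y ∈ chevG2.diagonalSubgroup K, R (D4H1.hel (RingHom.id K) t s) y := by
  refine ⟨Elts.hG hG2 7 (t : K) * Elts.hG hG2 6 (s : K), mul_mem (Elts.hG_mem_diagonal hG2 (by decide +kernel) t.ne_zero)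
    (Elts.hG_mem_diagonal hG2 (by decide +kernel) s.ne_zero), ?_⟩
  rw [D4H1.hel_eq]
  exact (R_outer (t : K)).mul (R_14 (s : K))

/-- a fixed torus element whose image is trivial is trivial -/
theorem tor_eq_one {h : GL chevD4.Idx K} (hh : h ∈ chevD4.diagonalSubgroup K) (hf : h ∈ fix (RingHom.id K))
    (h1 : (h : Matrix chevD4.Idx chevD4.Idx K) * I K = I K) : h = 1 := by
  obtain ⟨χ, rfl⟩ := D4Torus.diagonal_le hh
  obtain ⟨-, h2, h3, -⟩ := D4Torus.tor_fix_iff_aux (RingHom.id K) (χ := χ) hf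
  have h2' : χ 2 = χ 0 := Units.ext h2
  have h3' : χ 3 = χ 0 := (Units.ext h3 : χ 3 = χ 2).trans h2'
  have key : ∀ (s : Fin 24) (j : chevG2.Idx), ent (4 + s.val) (code chevG2 j) = 1 →
      (D4Torus.val χ (Sum.inr s) : K) = 1 := by
    intro s j hj
    have e := congrFun (congrFun h1 (Sum.inr s)) j
    have e1 : (((D4Torus.torHom χ : GL chevD4.Idx K) : Matrix chevD4.Idx chevD4.Idx K) * I K) (Sum.inr s) j =
        (D4Torus.val χ (Sum.inr s) : K) * I K (Sum.inr s) j := by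
      show ((Matrix.diagonal fun j => (D4Torus.val χ j : K)) * I K) (Sum.inr s) j = _
      rw [Matrix.diagonal_mul]
    have e2 : I K (Sum.inr s) j = 1 := by
      rw [I_apply]
      show ((ent (4 + s.val) (code chevG2 j) : ℤ) : K) = 1
      rw [hj, Int.cast_one]
    rw [e1, e2, mul_one] at e
    exact e
  have c14 : (χ 1 : K) = 1 := by
    have h := key 14 (Sum.inr ⟨6, by decide +kernel⟩) (by decide +kernel)
    have e : D4Torus.val χ (Sum.inr (14 : Fin 24)) = χ 1 := D4Torus.val_14 χ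
    rwa [e] at h
  have c18 : (χ 0 : K) = 1 := by
    have h := key 18 (Sum.inr ⟨7, by decide +kernel⟩) (by decide +kernel)
    have e : D4Torus.val χ (Sum.inr (18 : Fin 24)) = χ 0 := D4Torus.val_18 χ
    rwa [e] at h
  have hχ : χ = 1 := by
    funext i
    fin_cases i
    · exact Units.ext c18
    · exact Units.ext c14
    · exact h2'.trans (Units.ext c18)
    · exact h3'.trans (Units.ext c18)
  rw [hχ]
  exact map_one _

theorem fix_I_of {g : GL chevD4.Idx K} {h : g ∈ fix (RingHom.id K)} (h1 : rho3 K ⟨g, h⟩ = 1) :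
    (g : Matrix chevD4.Idx chevD4.Idx K) * I K = I K := by
  have h2 : J K * ((g : Matrix chevD4.Idx chevD4.Idx K) * I K) = 1 := by
    have := congrArg Units.val h1
    rw [coe_rho3] at this
    exact this
  have h3 := fix_I h
  rw [h2, Matrix.mul_one] at h3
  exact h3.symm

/-- **The action on the fixed space is faithful.** -/
theorem rho3_inj {g : GL chevD4.Idx K} (hg : g ∈ chevD4.group K) (hf : g ∈ fix (RingHom.id K))
    (h : rho3 K ⟨g, hf⟩ = 1) : g = 1 := by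
  obtain ⟨u, ⟨hu, huf⟩, n, ⟨hn, hnf⟩, v, ⟨hv, hvf⟩, rfl⟩ := fix_form hg (mem_FS_id.2 hf)
  replace huf := mem_FS_id.1 huf
  replace hnf := mem_FS_id.1 hnf
  replace hvf := mem_FS_id.1 hvf
  have huf' : u ∈ fix (RingHom.id K) := huf
  have hnf' : n ∈ fix (RingHom.id K) := hnf
  have hvf' : v ∈ fix (RingHom.id K) := hvf
  have e1 : rho3 K ⟨u, huf'⟩ * rho3 K ⟨n, hnf'⟩ * rho3 K ⟨v, hvf'⟩ = 1 := by
    rw [← map_mul, ← map_mul]
    exact h
  have hU : rho3 K ⟨n, hnf'⟩ ∈ chevG2.posUnipotent K := by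
    have e2 : rho3 K ⟨n, hnf'⟩ = (rho3 K ⟨u, huf'⟩)⁻¹ * (rho3 K ⟨v, hvf'⟩)⁻¹ := by
      rw [mul_eq_one_iff_eq_inv] at e1
      rw [← e1, inv_mul_cancel_left]
    rw [e2]
    exact mul_mem (inv_mem (inj_U hu huf').1) (inv_mem (inj_U hv hvf').1)
  obtain ⟨w, hw⟩ := exists_act hn
  have hc := act_comm hn hw hnf
  have p14 := pos_of_image hn hnf' hw hU (r := 14) (by decide) E14_fix
  have p18 := pos_of_image hn hnf' hw hU (r := 18) (by decide) E18_fix
  have hr1 : rho 18 = 13 := by decide +kernel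
  have hr2 : rho 13 = 12 := by decide +kernel
  have p13 : 12 ≤ (w 13).val := by
    rw [← hr1, hc]
    exact (rho_pos _).2 p18
  have p12 : 12 ≤ (w 12).val := by
    rw [← hr2, hc]
    exact (rho_pos _).2 p13
  have hH : n ∈ chevD4.diagonalSubgroup K := by
    have hnN : n ∈ (d4rgd K).N := (d4rgd_N K).ge hn
    refine RootPerm.mem_H_of_simple (d4rgd K) (D4Perm.X_injective K) (g := ⟨n, hnN⟩) ?_
    have e : RootPerm.permHom (d4rgd K) (D4Perm.X_injective K) ⟨n, hnN⟩ = w :=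
      RootPerm.permHom_eq (D4Perm.X_injective K) hw
    rw [e]
    intro i
    fin_cases i
    · exact p18
    · exact p14
    · exact p13
    · exact p12
  obtain ⟨t, s, hts⟩ := H_fix hH hnf
  obtain ⟨y, hy, hyR⟩ := R_hel t s
  rw [← hts] at hyR
  obtain ⟨hm, rfl⟩ := hyR
  have h1 : rho3 K ⟨n, hnf'⟩ ∈ chevG2.posUnipotent K ⊓ chevG2.diagonalSubgroup K := ⟨hU, hy⟩
  rw [(Cfsg.Agent.S1036.result (F := K) chevG2 hG2).2, Subgroup.mem_bot] at h1
  have hn1 : n = 1 := tor_eq_one hH hnf' (fix_I_of h1)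
  subst hn1
  have hw1 : u * v ∈ fix (RingHom.id K) := mul_mem huf' hvf'
  have e3 : rho3 K ⟨u * v, hw1⟩ = 1 := by
    have : (⟨u * v, hw1⟩ : ↥(fix (RingHom.id K))) = ⟨u * 1 * v, hf⟩ :=
      Subtype.ext (congrArg (fun x => x * v) (mul_one u).symm)
    rw [this]
    exact h
  have e4 := (inj_U (mul_mem hu hv) hw1).2 e3
  rw [mul_one]
  exact e4

/-- **The fixed points of triality.** -/
theorem equiv_G2 : Nonempty (↥(CS (Sid K)) ≃* ↥(chevG2.group K)) := by
  obtain ⟨e⟩ := equivG2 (K := K) (S := Sid K) id_mem (by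
    intro g hg h
    have hf : g ∈ fix (RingHom.id K) := DS_le_fix id_mem hg
    refine rho3_inj (DS_le_G _ hg) hf ?_
    apply Units.ext
    rw [coe_rho3]
    show J K * ((g : Matrix chevD4.Idx chevD4.Idx K) * I K) = 1
    rw [h, J_mul_I])
  have htop : kF (Sid K) = ⊤ := by
    rw [eq_top_iff]
    intro t _
    exact mem_kF_id t
  let f : ↥(kF (Sid K)) ≃+* K :=
    { toFun := fun x => x.1
      invFun := fun x => ⟨x, mem_kF_id x⟩
      left_inv := fun x => rfl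
      right_inv := fun x => rfl
      map_mul' := fun x y => rfl
      map_add' := fun x y => rfl }
  exact ⟨(MulEquiv.subgroupCongr CS_eq).trans (e.trans (ChevStructure.FieldMap.groupEquivOfRingEquiv chevG2 f))⟩

end

end Cfsg.Agent.H207.TriFix
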