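import Cfsg.Agent.H207.TriPt

/-!
# Opposite absolute vectors of twisted symmetric compositions (helper207)

* `SC.exists_opp` : every absolute vector has an opposite one (`3 ≠ 0`);
* `SC.exists_Z` : `Z v u ≠ 0` in dimension at least five;
* `SC.scalar` : a linear map preserving the product up to a scalar, which is scalar on `⟨u⟩ + Z u v` and on
  `⟨v⟩ + Z v u`, is scalar;
* `SC.transport` : semisimilarities preserving the product up to a scalar map chains to chains.
-/

set_option autoImplicit false

namespace Cfsg.Agent.H207.TriComp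

open QuadraticMap Module

variable {F V : Type*} [Field F] [AddCommGroup V] [Module F V]
variable {Q : QuadraticForm F V} {s : F ≃+* F} {st : V → V → V}

theorem form_sub (Q : QuadraticForm F V) (x y : V) : Q (x - y) = Q x + Q y - polar Q x y := by
  have e4 : polar Q x (-y) = - polar Q x y := polar_neg_right Q x y
  rw [polar, QuadraticMap.map_neg, ← sub_eq_add_neg] at e4
  linear_combination e4

namespace SC

variable (h : SC Q s st)

include h

section Idem

variable {u z : V} (hu : Abs Q st u) (hz : Q z = 0) (huz : polar Q u z = 1)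

include hu hz huz

omit hz in
theorem id_ua : st u (st u z) = u := by rw [h.uuz hu, huz, map_one, one_smul]

omit hz in
theorem id_cu : st (st z u) u = u := by rw [h.zuu hu, polar_comm, huz, map_one, map_one, one_smul]

omit hz huz in
theorem id_bau : polar Q u (st u z) = 0 := by
  rw [h.cyc, hu.sq, polar_zero_right, map_zero, map_zero]

omit hz huz in
theorem id_bcu : polar Q u (st z u) = 0 := by
  rw [polar_comm, h.assoc, hu.sq, polar_zero_right, map_zero]

omit hu hz in
theorem id_az : st (st u z) z = z - st (st z z) u := by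
  rw [h.left'', huz, map_one, map_one, one_smul]

omit hu hz in
theorem id_zc : st z (st z u) = z - st u (st z z) := by
  rw [h.right'', polar_comm, huz, map_one, one_smul]

omit hz in
theorem id_aa : st (st u z) (st u z) = s (s (polar Q u (st z z))) • u - st z u := by
  rw [h.left'' u z, h.id_bau hu, map_zero, map_zero, zero_smul, h.id_az huz, h.sub_left, h.zuu hu,
    polar_comm Q (st z z)]
  abel

omit hz in
theorem id_cc : st (st z u) (st z u) = s (polar Q u (st z z)) • u - st u z := by
  rw [h.right'' (st z u), polar_comm Q (st z u), h.id_bcu hu, map_zero, zero_smul, h.id_zc huz, h.sub_right,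
    h.uuz hu]
  abel

omit huz in
theorem id_ac : st (st u z) (st z u) = 0 := by
  rw [h.left'', h.id_bcu hu, h.left, hz]
  simp [h.zero_left]

omit hz huz in
theorem id_ca : st (st z u) (st u z) = polar Q u (st z z) • u := by
  rw [h.left'', h.uzu hu, h.zero_left, sub_zero, polar_comm Q z, h.assoc, h.cube]

/-- The idempotent. -/
theorem exists_idem : ∃ e : V, st e e = e ∧ st e u = -u ∧ st u e = -u ∧ Q e = 1 ∧ polar Q e u = 0 := by
  set φ := polar Q u (st z z) with hφ
  have e1 : st u (φ • u - st u z - st z u) = -u := by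
    rw [h.sub_right, h.sub_right, h.smul_right, hu.sq, smul_zero, h.id_ua hu huz, h.uzu' hu]
    abel
  have e2 : st (φ • u - st u z - st z u) u = -u := by
    rw [h.sub_left, h.sub_left, h.smul_left, hu.sq, smul_zero, h.uzu hu, h.id_cu hu huz]
    abel
  have e3 : polar Q (φ • u - st u z - st z u) u = 0 := by
    rw [polar_comm, polar_sub_right, polar_sub_right, polar_smul_right, polar_self_of_norm hu.norm, h.id_bau hu,
      h.id_bcu hu]
    simp
  refine ⟨φ • u - st u z - st z u, ?_, e2, e1, ?_, e3⟩
  · have e4 : st (φ • u - st u z - st z u) (φ • u - st u z - st z u) =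
        s φ • st u (φ • u - st u z - st z u) - st (st u z) (φ • u - st u z - st z u) -
          st (st z u) (φ • u - st u z - st z u) := by
      rw [h.sub_left (φ • u - st u z), h.sub_left, h.smul_left]
    have e5 : st (st u z) (φ • u - st u z - st z u) = -(s (s φ) • u - st z u) := by
      rw [h.sub_right, h.sub_right, h.smul_right, h.uzu hu, h.id_aa hu huz, h.id_ac hu hz, smul_zero, zero_sub,
        sub_zero]
    have e6 : st (st z u) (φ • u - st u z - st z u) = s (s φ) • u - φ • u - (s φ • u - st u z) := by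
      rw [h.sub_right, h.sub_right, h.smul_right, h.id_cu hu huz, h.id_ca hu, h.id_cc hu huz]
    rw [e4, e1, e5, e6]
    module
  · have e7 : polar Q (st u z) (st z u) = 1 := by
      rw [h.assoc, h.id_zc huz, polar_sub_right, huz, h.cyc u u, hu.sq, polar_zero_right]
      simp
    rw [form_sub, form_sub, polar_sub_left, polar_smul_left, polar_smul_left, h.id_bcu hu, QuadraticMap.map_smul,
      hu.norm, h.id_bau hu, h.norm, h.norm, hz, hu.norm, e7]
    simp

end Idem

/-- **Opposite absolute vectors exist.** -/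
theorem exists_opp [FiniteDimensional F V] (h3 : (3 : F) ≠ 0) {u : V} (hu : Abs Q st u) : ∃ v, Opp Q st u v := by
  obtain ⟨z₀, hz₀⟩ := h.exists_pair hu.ne
  obtain ⟨e, hee, heu, hue, hQe, hbe⟩ := h.exists_idem (z := z₀ - Q z₀ • u) hu (by
    rw [form_sub, QuadraticMap.map_smul, hu.norm, polar_smul_right, polar_comm, hz₀, smul_eq_mul]
    simp) (by
    rw [polar_sub_right, polar_smul_right, polar_self_of_norm hu.norm, hz₀, smul_zero, sub_zero])
  obtain ⟨t₀, ht₀, ht₀'⟩ := h.exists_sep (Submodule.span F {e}) (p := u) (by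
    intro hm
    obtain ⟨α, hα⟩ := Submodule.mem_span_singleton.1 hm
    have h1 := hu.norm
    rw [← hα, QuadraticMap.map_smul, hQe, smul_eq_mul, mul_one, mul_self_eq_zero] at h1
    rw [h1, zero_smul] at hα
    exact hu.ne hα.symm)
  have hbt : polar Q e t₀ = 0 := ht₀ e (Submodule.mem_span_singleton_self e)
  have hbu : polar Q u t₀ = 1 := by rw [polar_comm, ht₀']
  -- the map `z ↦ -z ⋆ e`
  have r1 : ∀ z, polar Q e (-st z e) = -s (polar Q e z) := by
    intro z
    rw [polar_neg_right, h.cyc, h.cyc, hee, polar_comm Q z, h.cube]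
  have r2 : ∀ z, polar Q u (-st z e) = s (polar Q u z) := by
    intro z
    rw [polar_neg_right, h.cyc, h.cyc, heu, polar_neg_right, polar_comm Q z]
    simp only [map_neg, neg_neg, h.cube]
  have r3 : ∀ z, polar Q e z = 0 → st (st z e) e = -st e z := by
    intro z hz
    rw [h.left'', polar_comm, hz, map_zero, map_zero, zero_smul, hee, zero_sub]
  set t₁ := -st t₀ e with ht₁
  set t₂ := -st t₁ e with ht₂
  have hb1 : polar Q e t₁ = 0 := by rw [ht₁, r1, hbt, map_zero, neg_zero]
  have hb2 : polar Q e t₂ = 0 := by rw [ht₂, r1, hb1, map_zero, neg_zero]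
  have hu1 : polar Q u t₁ = 1 := by rw [ht₁, r2, hbu, map_one]
  have hu2 : polar Q u t₂ = 1 := by rw [ht₂, r2, hu1, map_one]
  have ht₃ : -st t₂ e = t₀ := by
    rw [ht₂, h.neg_left, neg_neg, ht₁, h.neg_left, h.neg_left, r3 t₀ hbt, h.neg_left, neg_neg, h.left, hQe,
      map_one, map_one, one_smul]
  set t := (3 : F)⁻¹ • (t₀ + t₁ + t₂) with ht
  have hs3 : s (3 : F)⁻¹ = 3⁻¹ := by rw [map_inv₀, map_ofNat]
  have hte : st t e = -t := by
    have e1 : -st t e = (3 : F)⁻¹ • (-st t₀ e + -st t₁ e + -st t₂ e) := by
      rw [ht, h.smul_left, hs3, h.add_left, h.add_left]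
      module
    rw [← ht₁, ← ht₂, ht₃] at e1
    rw [← neg_inj, neg_neg, e1, ht]
    module
  have hbte : polar Q e t = 0 := by
    rw [ht, polar_smul_right, polar_add_right, polar_add_right, hbt, hb1, hb2]
    simp
  have hbut : polar Q u t = 1 := by
    rw [ht, polar_smul_right, polar_add_right, polar_add_right, hbu, hu1, hu2, smul_eq_mul]
    have e1 : (1 : F) + 1 + 1 = 3 := by norm_num
    rw [e1, inv_mul_cancel₀ h3]
  clear_value t
  have het : st e t = -t := by
    have e1 := r3 t hbte
    rw [hte, h.neg_left, hte, neg_neg] at e1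
    rw [← neg_inj, neg_neg, ← e1]
  have hQt : s (Q t) = Q t := by
    have e1 := h.norm t e
    rw [hte, QuadraticMap.map_neg, hQe, map_one, map_one, mul_one] at e1
    exact e1.symm
  have hve : st (t - Q t • u) e = -(t - Q t • u) := by
    rw [h.sub_left, h.smul_left, hte, hue, hQt]
    module
  have hev : st e (t - Q t • u) = -(t - Q t • u) := by
    rw [h.sub_right, h.smul_right, het, heu, hQt, hQt]
    module
  have hQv : Q (t - Q t • u) = 0 := by
    rw [form_sub, QuadraticMap.map_smul, hu.norm, polar_smul_right, polar_comm, hbut, smul_eq_mul]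
    simp
  have hbev : polar Q e (t - Q t • u) = 0 := by
    rw [polar_sub_right, hbte, polar_smul_right, hbe, smul_zero, sub_zero]
  have hbuv : polar Q u (t - Q t • u) = 1 := by
    rw [polar_sub_right, hbut, polar_smul_right, polar_self_of_norm hu.norm, smul_zero, sub_zero]
  refine ⟨t - Q t • u, hu, ⟨?_, hQv, ?_⟩, hbuv⟩
  · intro h0
    rw [h0, polar_zero_right] at hbuv
    exact zero_ne_one hbuv
  · set v := t - Q t • u with hv
    have e1 := h.left'' e v (st v e)
    rw [h.left, hQv, map_zero, map_zero, zero_smul, h.zero_left, sub_zero, hve, hev, h.neg_left, h.neg_right,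
      neg_neg, polar_neg_right, hbev] at e1
    simpa using e1

section Opp

variable {u v : V} (ho : Opp Q st u v)

include ho

theorem MemZ_left {t : V} (hta : polar Q (st u v) t = 0) (htv : polar Q v t = 0) : MemZ Q st v u (st v t) :=
  ⟨by rw [h.uuz ho.snd, htv, map_zero, zero_smul], h.uzu ho.snd t, by
    rw [h.cyc, polar_comm, hta, map_zero, map_zero]⟩

theorem MemZ_right {t : V} (htc : polar Q (st v u) t = 0) (htv : polar Q v t = 0) : MemZ Q st v u (st t v) :=
  ⟨h.uzu' ho.snd t, by rw [h.zuu ho.snd, polar_comm, htv, map_zero, map_zero, zero_smul], by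
    rw [h.cyc, h.cyc, polar_comm, htc, map_zero, map_zero, map_zero, map_zero]⟩

/-- `Z v u ≠ 0`. -/
theorem exists_Z [FiniteDimensional F V] (hV : 5 ≤ finrank F V) : ∃ z, z ≠ 0 ∧ MemZ Q st v u z := by
  have h1 : LinearMap.ker (LinearMap.pi ![polarBilin Q u, polarBilin Q v, polarBilin Q (st u v),
      polarBilin Q (st v u)]) ≠ ⊥ := by
    apply LinearMap.ker_ne_bot_of_finrank_lt
    rw [finrank_fintype_fun_eq_card, Fintype.card_fin]
    omega
  obtain ⟨t, ht, ht0⟩ := Submodule.exists_mem_ne_zero_of_ne_bot h1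
  have ht' := LinearMap.mem_ker.1 ht
  have k0 : polar Q u t = 0 := congrFun ht' 0
  have k1 : polar Q v t = 0 := congrFun ht' 1
  have k2 : polar Q (st u v) t = 0 := congrFun ht' 2
  have k3 : polar Q (st v u) t = 0 := congrFun ht' 3
  by_cases hl : st v t = 0
  · by_cases hr : st t v = 0
    · exact ⟨t, ht0, hl, hr, k0⟩
    · exact ⟨_, hr, h.MemZ_right ho k3 k1⟩
  · exact ⟨_, hl, h.MemZ_left ho k2 k1⟩

theorem polar_av : polar Q (st u v) v = 0 := by rw [h.assoc, ho.snd.sq, polar_zero_right, map_zero]

theorem polar_cv : polar Q (st v u) v = 0 := by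
  rw [polar_comm, h.cyc, ho.snd.sq, polar_zero_right, map_zero, map_zero]

theorem norm_a : Q (st u v) = 0 := (h.iso_uv ho).nw

theorem norm_c : Q (st v u) = 0 := (h.iso_vu ho).nw

/-- The scalar lemma. -/
theorem scalar {g : V → V} (hadd : ∀ x y, g (x + y) = g x + g y) (hsmul : ∀ (c : F) x, g (c • x) = c • g x)
    {c : F} (hg : ∀ p q, g (st p q) = c • st (g p) (g q)) {μ μ' : F} (hgu : g u = μ • u)
    (hZ : ∀ z, MemZ Q st u v z → g z = μ • z) (hgv : g v = μ' • v) (hZ' : ∀ z, MemZ Q st v u z → g z = μ' • z)
    {z₀ : V} (hz0 : z₀ ≠ 0) (hz : MemZ Q st v u z₀) (t : V) : g t = μ • t := by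
  have hk := h.kz_kz ho hz
  have n1 : st u z₀ ≠ 0 := by
    intro h0
    rw [h0] at hk
    simp only [h.zero_right] at hk
    exact hz0 (neg_eq_zero.1 hk.symm)
  have n2 : st v (st u z₀) ≠ 0 := by
    intro h0
    rw [h0] at hk
    simp only [h.zero_right] at hk
    exact hz0 (neg_eq_zero.1 hk.symm)
  have n3 : st z₀ u ≠ 0 := by
    intro h0
    have e1 : st (st z₀ u) v = -st (st v u) z₀ := by
      rw [h.left'', polar_comm, h.polar_of_M1 ho.snd hz.left, map_zero, map_zero, zero_smul, zero_sub]
    have e2 : st (st v u) z₀ = 0 := by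
      rw [h0, h.zero_left] at e1
      exact neg_eq_zero.1 e1.symm
    have e3 : st (st z₀ (st u v)) (st u v) = st (st v u) z₀ := by
      rw [h.left'', polar_comm, h.polar_a_of_Z hz, map_zero, map_zero, zero_smul, h.aa ho, h.neg_left, zero_sub,
        neg_neg]
    have hp : ∀ {z : V}, MemZ Q st v u z → polar Q v z = 0 := fun hz => h.polar_of_M1 ho.snd hz.left
    have hT := h.Z_left ho.symm (h.Z_left ho hz)
    have e4 : st v (st u (st v (st u z₀))) = 0 := by
      rw [h.T_eq (hp hT), h.T_eq (hp hz), h.neg_left, neg_neg, e3, e2]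
    rw [e4] at hk
    simp only [h.zero_right] at hk
    exact hz0 (neg_eq_zero.1 hk.symm)
  have cancel : ∀ {a b : F} {x : V}, x ≠ 0 → a • x = b • x → a = b := by
    intro a b x hx hab
    have : (a - b) • x = 0 := by rw [sub_smul, hab, sub_self]
    rcases smul_eq_zero.1 this with h1 | h1
    · exact sub_eq_zero.1 h1
    · exact absurd h1 hx
  have a1 : μ = c * s μ' * s (s μ) := by
    apply cancel n3
    rw [← hZ _ (h.Z_right ho hz), hg, hZ' _ hz, hgu, h.smul_left, h.smul_right, smul_smul, smul_smul, mul_assoc]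
  have a2 : μ' = c * s μ' * s (s μ) := by
    apply cancel n2
    rw [← hZ' _ (h.Z_left ho.symm (h.Z_left ho hz)), hg, hZ _ (h.Z_left ho hz), hgv, h.smul_left, h.smul_right,
      smul_smul, smul_smul, mul_assoc]
  have hμ : μ' = μ := a2.trans a1.symm
  rw [hμ] at a1 hgv hZ'
  have hprod : ∀ p q, g p = μ • p → g q = μ • q → g (st p q) = μ • st p q := by
    intro p q hp hq
    rw [hg, hp, hq, h.smul_left, h.smul_right, smul_smul, smul_smul]
    congr 1
    exact a1.symm
  have ga : g (st u v) = μ • st u v := hprod u v hgu hgv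
  have gc : g (st v u) = μ • st v u := hprod v u hgv hgu
  set t' := t - polar Q t v • u - polar Q t u • v - polar Q t (st v u) • st u v - polar Q t (st u v) • st v u with ht'
  have b1 : polar Q u v = 1 := ho.pair
  have b2 : polar Q v u = 1 := ho.symm.pair
  have b3 := h.polar_ac ho
  have b4 := h.polar_ac ho.symm
  have b5 := (h.iso_uv ho).uw
  have b6 := (h.iso_vu ho).uw
  have b7 := h.polar_av ho
  have b8 := h.polar_cv ho
  have b9 := polar_self_of_norm ho.fst.norm
  have b10 := polar_self_of_norm ho.snd.norm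
  have b11 := polar_self_of_norm (h.norm_a ho)
  have b12 := polar_self_of_norm (h.norm_c ho)
  have c1 : polar Q u t' = 0 := by
    rw [ht']
    simp only [polar_sub_right, polar_smul_right, b9, b1, b5, b6, smul_eq_mul, polar_comm Q t u]
    ring
  have c2 : polar Q v t' = 0 := by
    rw [ht']
    simp only [polar_sub_right, polar_smul_right, b10, b2, polar_comm Q v (st u v), polar_comm Q v (st v u), b7, b8,
      smul_eq_mul, polar_comm Q t v]
    ring
  have c3 : polar Q (st u v) t' = 0 := by
    rw [ht']
    simp only [polar_sub_right, polar_smul_right, b11, polar_comm Q (st u v) u, b5, b7, b3, smul_eq_mul,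
      polar_comm Q t (st u v)]
    ring
  have c4 : polar Q (st v u) t' = 0 := by
    rw [ht']
    simp only [polar_sub_right, polar_smul_right, b12, polar_comm Q (st v u) u, b6, b8, b4, smul_eq_mul,
      polar_comm Q t (st v u)]
    ring
  have gt' : g t' = μ • t' := by
    have e1 := h.right' u t' v
    rw [b1, map_one, one_smul] at e1
    rw [← e1, hadd, smul_add, hprod _ _ hgu (hZ' _ (h.MemZ_right ho c4 c2)),
      hprod _ _ hgv (hZ _ (h.MemZ_right ho.symm c3 c1))]
  have e2 : t = t' + polar Q t v • u + polar Q t u • v + polar Q t (st v u) • st u v +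
      polar Q t (st u v) • st v u := by
    rw [ht']
    abel
  rw [e2, hadd, hadd, hadd, hadd, gt', hsmul, hsmul, hsmul, hsmul, hgu, hgv, ga, gc]
  module

end Opp

end SC

end Cfsg.Agent.H207.TriComp
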