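import Cfsg.Agent.H207.TriChain

/-!
# Absolute vectors of twisted symmetric compositions (helper207)

* `SC.mid` : `u`, `v` absolute, orthogonal, `a = u ⋆ v ≠ 0`: then `a` is absolute and `u, v ∈ Pi a`, `u ∉ ⟨a, v⟩`;
* `Opp Q st u v` : `u`, `v` absolute with `b(u, v) = 1`; `Z u v = Pi u ∩ v^⊥`; `kz z = u ⋆ (v ⋆ (u ⋆ z))` maps `Z v u` to
  `Z u v`, and `kz' (kz z) = -z`;
* `SC.exists_Z`, `SC.exists_iso`.
-/

set_option autoImplicit false

namespace Cfsg.Agent.H207.TriComp

open QuadraticMap Module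

variable {F V : Type*} [Field F] [AddCommGroup V] [Module F V]
variable {Q : QuadraticForm F V} {s : F ≃+* F} {st : V → V → V}

namespace SC

variable (h : SC Q s st)

include h

/-! ### Separation -/

theorem exists_sep [FiniteDimensional F V] (S : Submodule F V) {p : V} (hp : p ∉ S) :
    ∃ w, (∀ z ∈ S, polar Q z w = 0) ∧ polar Q w p = 1 := by
  have hnd : (polarBilin Q).Nondegenerate := by
    refine ⟨fun x hx => h.nondeg x fun w => hx w, fun x hx => h.nondeg x fun w => ?_⟩
    rw [polar_comm]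
    exact hx w
  have hrefl : LinearMap.IsRefl (polarBilin Q) := by
    intro x y hxy
    change polar Q y x = 0
    rw [polar_comm]
    exact hxy
  by_contra hcon
  push Not at hcon
  apply hp
  have h1 := LinearMap.BilinForm.orthogonal_orthogonal (B := polarBilin Q) hnd hrefl S
  rw [← h1, LinearMap.BilinForm.mem_orthogonal_iff]
  intro w hw
  rw [LinearMap.BilinForm.mem_orthogonal_iff] at hw
  change polar Q w p = 0
  by_contra hne
  apply hcon ((polar Q w p)⁻¹ • w)
  · intro z hz
    rw [polar_smul_right]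
    have h2 : polar Q z w = 0 := hw z hz
    rw [h2, smul_zero]
  · rw [polar_smul_left, smul_eq_mul, inv_mul_cancel₀ hne]

theorem polar_of_Pi_Pi {u x y : V} (hu : Abs Q st u) (hx : x ∈ h.Pi u) (hy : y ∈ h.Pi u) : polar Q x y = 0 := by
  unfold polar
  rw [h.norm_of_Pi hu ((h.Pi u).add_mem hx hy), h.norm_of_Pi hu hx, h.norm_of_Pi hu hy]
  ring

/-- Isotropic vectors orthogonal to `a` with prescribed values on `Pi a`. -/
theorem exists_iso [FiniteDimensional F V] {a p q : V} (ha : Abs Q st a) (hp : p ∈ h.Pi a) (hq : q ∈ h.Pi a)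
    (hpq : p ∉ Submodule.span F {a, q}) : ∃ w, Iso2 Q a w ∧ polar Q w p = 1 ∧ polar Q w q = 0 := by
  obtain ⟨w₀, h1, h2⟩ := h.exists_sep _ hpq
  have ha0 : polar Q a w₀ = 0 := h1 a (Submodule.subset_span (by simp))
  have hq0 : polar Q q w₀ = 0 := h1 q (Submodule.subset_span (by simp))
  have hap := h.polar_of_Pi ha hp
  have hpp := h.norm_of_Pi ha hp
  have key : ∀ x y : V, Q (x - y) = Q x + Q y - polar Q x y := by
    intro x y
    have e4 : polar Q x (-y) = - polar Q x y := polar_neg_right Q x y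
    rw [polar, QuadraticMap.map_neg, ← sub_eq_add_neg] at e4
    linear_combination e4
  refine ⟨w₀ - Q w₀ • p, ⟨ha.norm, ?_, ?_⟩, ?_, ?_⟩
  · rw [key, QuadraticMap.map_smul, hpp, smul_zero, polar_smul_right, h2, smul_eq_mul]
    ring
  · rw [polar_sub_right, ha0, polar_smul_right, hap, smul_zero, sub_zero]
  · rw [polar_sub_left, h2, polar_smul_left, h.polar_of_Pi_Pi ha hp hp, smul_zero, sub_zero]
  · rw [polar_sub_left, polar_comm, hq0, polar_smul_left, h.polar_of_Pi_Pi ha hp hq, smul_zero, sub_zero]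

/-! ### Points at distance two -/

/-- The middle point. -/
theorem mid {u v : V} (hu : Abs Q st u) (hv : Abs Q st v) (huv : polar Q u v = 0) (ha : st u v ≠ 0) :
    Abs Q st (st u v) ∧ u ∈ h.Pi (st u v) ∧ v ∈ h.Pi (st u v) := by
  have h1 : st u (st u v) = 0 := by rw [h.uuz hu, huv, map_zero, zero_smul]
  have h2 : st (st u v) u = 0 := h.uzu hu v
  have h3 : st (st u v) v = 0 := by rw [h.zuu hv, huv, map_zero, map_zero, zero_smul]
  have h4 : st v (st u v) = 0 := h.uzu' hv u
  have h5 : st (st u v) (st u v) = 0 := by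
    rw [h.left'', h3, h.zero_left, sub_zero, h.cyc, hu.sq, polar_zero_right, map_zero, map_zero, map_zero, map_zero,
      zero_smul]
  refine ⟨⟨ha, ?_, h5⟩, ⟨h2, h1⟩, ⟨h3, h4⟩⟩
  rw [h.norm, hu.norm, map_zero, zero_mul]

theorem not_mem_span {u v a : V} (hv : Abs Q st v) (ha1 : st a v = 0) (huv : st u v ≠ 0) :
    u ∉ Submodule.span F {a, v} := by
  intro hm
  obtain ⟨α, β, rfl⟩ := Submodule.mem_span_pair.1 hm
  apply huv
  rw [h.add_left, h.smul_left, h.smul_left, ha1, hv.sq, smul_zero, smul_zero, add_zero]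

theorem not_mem_span' {u v a : V} (hv : Abs Q st v) (ha1 : st v a = 0) (huv : st v u ≠ 0) :
    u ∉ Submodule.span F {a, v} := by
  intro hm
  obtain ⟨α, β, rfl⟩ := Submodule.mem_span_pair.1 hm
  apply huv
  rw [h.add_right, h.smul_right, h.smul_right, ha1, hv.sq, smul_zero, smul_zero, add_zero]

end SC

/-! ### Opposite points -/

/-- Opposite absolute vectors. -/
structure Opp (Q : QuadraticForm F V) (st : V → V → V) (u v : V) : Prop where
  fst : Abs Q st u
  snd : Abs Q st v
  pair : polar Q u v = 1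

theorem Opp.symm {u v : V} (ho : Opp Q st u v) : Opp Q st v u :=
  ⟨ho.snd, ho.fst, by rw [polar_comm, ho.pair]⟩

/-- `z ∈ Pi u ∩ v^⊥`. -/
structure MemZ (Q : QuadraticForm F V) (st : V → V → V) (u v z : V) : Prop where
  left : st u z = 0
  right : st z u = 0
  perp : polar Q v z = 0

namespace SC

variable (h : SC Q s st)

include h

section Opp

variable {u v : V} (ho : Opp Q st u v)

include ho

theorem iso_uv : Iso2 Q u (st u v) :=
  ⟨ho.fst.norm, by rw [h.norm, ho.fst.norm, map_zero, zero_mul], by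
    rw [h.cyc, ho.fst.sq, polar_zero_right, map_zero, map_zero]⟩

theorem iso_vu : Iso2 Q u (st v u) :=
  ⟨ho.fst.norm, by rw [h.norm, ho.fst.norm, map_zero, map_zero, mul_zero], by
    rw [polar_comm, h.assoc, ho.fst.sq, polar_zero_right, map_zero]⟩

theorem f1_eq (z : V) : f1 st u (st u v) z = f0 Q u (-st v u) z := by
  have e1 : st (st (st u v) z) u = polar Q u z • st v u - polar Q (st v u) z • u := by
    rw [h.left'' u v z, h.sub_left, h.smul_left, h.cube, h.zuu ho.fst, h.assoc z v u, h.cube, polar_comm Q z]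
  rw [f1, f0, e1, polar_neg_left]
  module

theorem f2_eq (z : V) : f2 st u (st u v) z = z + st u (st v (st u z)) := by
  rw [f2, h.right'' z u v, h.sub_right, h.smul_right, ho.fst.sq, smul_zero, zero_sub, sub_neg_eq_add]

theorem uuv : st u (st u v) = u := by
  rw [h.uuz ho.fst, ho.pair, map_one, one_smul]

theorem uvv : st (st u v) v = v := by
  rw [h.zuu ho.snd, ho.pair, map_one, map_one, one_smul]

theorem f2_a : f2 st u (st u v) (st u v) = st u v := by
  rw [h.f2_eq ho, h.uuv ho, h.uzu' ho.fst, add_zero]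

theorem f2_c : f2 st u (st u v) (st v u) = st v u := by
  rw [h.f2_eq ho, h.uzu' ho.fst, h.zero_right, h.zero_right, add_zero]

theorem f2_u : f2 st u (st u v) u = u := by
  rw [h.f2_eq ho, ho.fst.sq, h.zero_right, h.zero_right, add_zero]

theorem aa : st (st u v) (st u v) = -st v u := by
  rw [h.left'' u v, h.uvv ho, (h.iso_uv ho).uw, map_zero, map_zero, zero_smul, zero_sub]

theorem polar_ac : polar Q (st u v) (st v u) = 1 := by
  rw [polar_comm, h.assoc, h.uuv ho, ho.symm.pair, map_one]

omit ho in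
theorem polar_a_of_Z {z : V} (hz : MemZ Q st v u z) : polar Q (st u v) z = 0 := by
  rw [h.assoc, hz.left, polar_zero_right, map_zero]

omit ho in
theorem polar_c_of_Z {z : V} (hz : MemZ Q st v u z) : polar Q (st v u) z = 0 := by
  rw [polar_comm, h.cyc, hz.right, polar_zero_right, map_zero, map_zero]

theorem Z_left {z : V} (hz : MemZ Q st v u z) : MemZ Q st u v (st u z) :=
  ⟨by rw [h.uuz ho.fst, hz.perp, map_zero, zero_smul], h.uzu ho.fst z, by
    rw [h.cyc, polar_comm, h.polar_c_of_Z hz, map_zero, map_zero]⟩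

theorem Z_right {z : V} (hz : MemZ Q st v u z) : MemZ Q st u v (st z u) :=
  ⟨h.uzu' ho.fst z, by rw [h.zuu ho.fst, polar_comm, hz.perp, map_zero, map_zero, zero_smul], by
    rw [h.cyc, hz.left, polar_zero_right, map_zero, map_zero]⟩

/-- The map `Z v u → Z u v`. -/
theorem kz_mem {z : V} (hz : MemZ Q st v u z) : MemZ Q st u v (st u (st v (st u z))) :=
  h.Z_left ho (h.Z_left ho.symm (h.Z_left ho hz))

omit ho in
theorem T_eq {z : V} (hvz : polar Q v z = 0) : st v (st u z) = -st z (st u v) := by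
  rw [h.right'', hvz, map_zero, zero_smul, zero_sub]

theorem kz_kz {z : V} (hz : MemZ Q st v u z) :
    st v (st u (st v (st u (st v (st u z))))) = -z := by
  have hT : ∀ {z : V}, MemZ Q st v u z → MemZ Q st v u (st v (st u z)) := fun hz =>
    h.Z_left ho.symm (h.Z_left ho hz)
  have hp : ∀ {z : V}, MemZ Q st v u z → polar Q v z = 0 := fun hz => h.polar_of_M1 ho.snd hz.left
  rw [h.T_eq (hp (hT (hT hz))), h.T_eq (hp (hT hz)), h.T_eq (hp hz),
    h.neg_left, h.neg_left, h.neg_left, h.left'' z (st u v) (st u v), h.aa ho, h.neg_left, polar_comm Q z,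
    h.polar_a_of_Z hz, map_zero, map_zero, zero_smul, zero_sub]
  simp only [neg_neg]
  rw [h.left'' (st v u), polar_comm Q (st v u), h.polar_ac ho, map_one, map_one, one_smul, h.left'' u v z, hz.perp,
    map_zero, map_zero, zero_smul, hz.right, h.zero_left, sub_zero, h.zero_left, sub_zero]

end Opp

end SC

end Cfsg.Agent.H207.TriComp
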